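import Cfsg.Agent.Lib.Spor.Cos.Fi22.Sa0Closed0

/-! Data and checks for a presented sporadic group. -/

set_option autoImplicit false
set_option maxRecDepth 100000
set_option maxHeartbeats 4000000

namespace Cfsg.Agent.Spor.Cos.Fi22

theorem sa0_closed : ∀ i < 3159, (sa0.chkClosed actA sa0W) i = true :=
  of_blocks (size := 512) (b := 7) (by decide) (by decide) fun j hj => by
    interval_cases j
    · exact sa0_closed0
    · exact sa0_closed1
    · exact sa0_closed2
    · exact sa0_closed3
    · exact sa0_closed4
    · exact sa0_closed5
    · exact sa0_closed6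

end Cfsg.Agent.Spor.Cos.Fi22
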