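import Cfsg.Agent.Lib.Spor.Cos.Fi22.Sa1Closed0
import Cfsg.Agent.Lib.Spor.Cos.Fi22.Sa1Closed1

/-! Data and checks for a presented sporadic group. -/

set_option autoImplicit false
set_option maxRecDepth 100000
set_option maxHeartbeats 4000000

namespace Cfsg.Agent.Spor.Cos.Fi22

theorem sa1_closed : ∀ i < 10920, (sa1.chkClosed actA sa1W) i = true :=
  of_blocks (size := 512) (b := 22) (by decide) (by decide) fun j hj => by
    interval_cases j
    · exact sa1_closed0
    · exact sa1_closed1
    · exact sa1_closed2
    · exact sa1_closed3
    · exact sa1_closed4
    · exact sa1_closed5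
    · exact sa1_closed6
    · exact sa1_closed7
    · exact sa1_closed8
    · exact sa1_closed9
    · exact sa1_closed10
    · exact sa1_closed11
    · exact sa1_closed12
    · exact sa1_closed13
    · exact sa1_closed14
    · exact sa1_closed15
    · exact sa1_closed16
    · exact sa1_closed17
    · exact sa1_closed18
    · exact sa1_closed19
    · exact sa1_closed20
    · exact sa1_closed21

end Cfsg.Agent.Spor.Cos.Fi22
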