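import Cfsg.Agent.Lib.Spor.Cos.Fi22.UVecData
import Cfsg.Agent.Lib.Spor.Cos.Fi22.ActUData
import Cfsg.Agent.Lib.Spor.Cos.FieldFour
import Cfsg.Agent.Lib.Spor.Cos.Act
import Cfsg.Agent.Lib.Classical.UnitCenter

/-!
The unitary group of dimension 6 over four elements on its 693 isotropic points.
-/

set_option autoImplicit false
set_option maxRecDepth 100000
set_option maxHeartbeats 1000000

open Matrix Cfsg.Agent.Classical

namespace Cfsg.Agent.Spor.Cos.Fi22

/-- A vector from its code. -/
def uVec (p : ℕ) : Fin 6 → F4 := fun i => F4.toF (p / 4 ^ (i : ℕ) % 4)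

/-- The code of a vector. -/
def uCode (v : Fin 6 → F4) : ℕ :=
  (v 0).code + 4 * (v 1).code + 16 * (v 2).code + 64 * (v 3).code + 256 * (v 4).code + 1024 * (v 5).code

theorem uVec_uCode (v : Fin 6 → F4) : uCode v < 4096 ∧ uVec (uCode v) = v := by
  have := F4.code_lt (v 0); have := F4.code_lt (v 1); have := F4.code_lt (v 2)
  have := F4.code_lt (v 3); have := F4.code_lt (v 4); have := F4.code_lt (v 5)
  refine ⟨by unfold uCode; omega, funext fun i => ?_⟩
  show F4.toF (uCode v / 4 ^ (i : ℕ) % 4) = v i
  have h : uCode v / 4 ^ (i : ℕ) % 4 = (v i).code := by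
    unfold uCode
    obtain ⟨i, hi⟩ := i
    rcases i with _ | _ | _ | _ | _ | _ | i
    · show _ / 4 ^ 0 % 4 = (v 0).code; omega
    · show _ / 4 ^ 1 % 4 = (v 1).code; omega
    · show _ / 4 ^ 2 % 4 = (v 2).code; omega
    · show _ / 4 ^ 3 % 4 = (v 3).code; omega
    · show _ / 4 ^ 4 % 4 = (v 4).code; omega
    · show _ / 4 ^ 5 % 4 = (v 5).code; omega
    · omega
  rw [h, F4.toF_code]

/-- A vector of a point. -/
noncomputable def uPt (b : ℕ) : Fin 6 → F4 := uVec (ptVec.at b)

/-- The facts for an isotropic vector. -/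
noncomputable def chkVec (p : ℕ) : Bool :=
  !decide (hermForm 6 F4 2 (uVec p) (uVec p) = 0) || Nat.beq p 0 ||
    force (ptTab.at p) fun b => Nat.blt b 693 &&
      [F4.e, F4.w, F4.v].all (fun c => Nat.beq (ptTab.at (uCode (c • uVec p))) b) &&
      [F4.e, F4.w, F4.v].any (fun c => decide (uPt b = c • uVec p))

/-- The facts for a point. -/
noncomputable def chkPt (b : ℕ) : Bool :=
  decide (hermForm 6 F4 2 (uPt b) (uPt b) = 0) && decide (uPt b ≠ 0) && Nat.beq (ptTab.at (uCode (uPt b))) b

/-- A matrix from its rows. -/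
def uMat (s : ℕ) : Matrix (Fin 6) (Fin 6) F4 :=
  Matrix.of fun i j => if s < 9 then F4.toF (((uRows.getD s []).getD i []).getD j 0) else if i = j then 1 else 0

/-- The matrices agree with the table. -/
noncomputable def chkU (b : ℕ) : Bool :=
  (List.range 9).all fun s => Nat.beq (ptTab.at (uCode (uMat s *ᵥ uPt b))) (actU.im b s)

theorem chkVec_all0 : allBlock chkVec 4096 256 0 = true := by decide +kernel

theorem chkVec_all1 : allBlock chkVec 4096 256 1 = true := by decide +kernel

theorem chkVec_all2 : allBlock chkVec 4096 256 2 = true := by decide +kernel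

theorem chkVec_all3 : allBlock chkVec 4096 256 3 = true := by decide +kernel

theorem chkVec_all4 : allBlock chkVec 4096 256 4 = true := by decide +kernel

theorem chkVec_all5 : allBlock chkVec 4096 256 5 = true := by decide +kernel

theorem chkVec_all6 : allBlock chkVec 4096 256 6 = true := by decide +kernel

theorem chkVec_all7 : allBlock chkVec 4096 256 7 = true := by decide +kernel

theorem chkVec_all8 : allBlock chkVec 4096 256 8 = true := by decide +kernel

theorem chkVec_all9 : allBlock chkVec 4096 256 9 = true := by decide +kernel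

theorem chkVec_all10 : allBlock chkVec 4096 256 10 = true := by decide +kernel

theorem chkVec_all11 : allBlock chkVec 4096 256 11 = true := by decide +kernel

theorem chkVec_all12 : allBlock chkVec 4096 256 12 = true := by decide +kernel

theorem chkVec_all13 : allBlock chkVec 4096 256 13 = true := by decide +kernel

theorem chkVec_all14 : allBlock chkVec 4096 256 14 = true := by decide +kernel

theorem chkVec_all15 : allBlock chkVec 4096 256 15 = true := by decide +kernel

theorem chkVec_all : ∀ p < 4096, chkVec p = true :=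
  of_blocks (size := 256) (b := 16) (by decide) (by decide) fun j hj => by
    interval_cases j
    · exact chkVec_all0
    · exact chkVec_all1
    · exact chkVec_all2
    · exact chkVec_all3
    · exact chkVec_all4
    · exact chkVec_all5
    · exact chkVec_all6
    · exact chkVec_all7
    · exact chkVec_all8
    · exact chkVec_all9
    · exact chkVec_all10
    · exact chkVec_all11
    · exact chkVec_all12
    · exact chkVec_all13
    · exact chkVec_all14
    · exact chkVec_all15

theorem chkPt_all0 : allBlock chkPt 693 128 0 = true := by decide +kernel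

theorem chkPt_all1 : allBlock chkPt 693 128 1 = true := by decide +kernel

theorem chkPt_all2 : allBlock chkPt 693 128 2 = true := by decide +kernel

theorem chkPt_all3 : allBlock chkPt 693 128 3 = true := by decide +kernel

theorem chkPt_all4 : allBlock chkPt 693 128 4 = true := by decide +kernel

theorem chkPt_all5 : allBlock chkPt 693 128 5 = true := by decide +kernel

theorem chkPt_all : ∀ p < 693, chkPt p = true :=
  of_blocks (size := 128) (b := 6) (by decide) (by decide) fun j hj => by
    interval_cases j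
    · exact chkPt_all0
    · exact chkPt_all1
    · exact chkPt_all2
    · exact chkPt_all3
    · exact chkPt_all4
    · exact chkPt_all5

theorem chkU_all0 : allBlock chkU 693 128 0 = true := by decide +kernel

theorem chkU_all1 : allBlock chkU 693 128 1 = true := by decide +kernel

theorem chkU_all2 : allBlock chkU 693 128 2 = true := by decide +kernel

theorem chkU_all3 : allBlock chkU 693 128 3 = true := by decide +kernel

theorem chkU_all4 : allBlock chkU 693 128 4 = true := by decide +kernel

theorem chkU_all5 : allBlock chkU 693 128 5 = true := by decide +kernel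

theorem chkU_all : ∀ p < 693, chkU p = true :=
  of_blocks (size := 128) (b := 6) (by decide) (by decide) fun j hj => by
    interval_cases j
    · exact chkU_all0
    · exact chkU_all1
    · exact chkU_all2
    · exact chkU_all3
    · exact chkU_all4
    · exact chkU_all5

theorem uMat_ok : ∀ s : Fin 9, (uMat s).det = 1 ∧ (uMat s)ᵀ * (uMat s).map (fun x => x ^ 2) = 1 := by
  intro s
  fin_cases s <;> decide +kernel

/-- The nine elements. -/
noncomputable def uGen (s : Fin 9) : SU 6 F4 2 := suMk F4.card_sq (uMat s) (uMat_ok s).1 (uMat_ok s).2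

/-- The image of a point. -/
noncomputable def uMove (M : SU 6 F4 2) (b : Fin 693) : Fin 693 :=
  Fin.ofNat 693 (ptTab.at (uCode (suVal M *ᵥ uPt b)))

theorem isotropic_point {v : Fin 6 → F4} (h0 : v ≠ 0) (hi : hermForm 6 F4 2 v v = 0) :
    ptTab.at (uCode v) < 693 ∧ (∀ c : F4, c ≠ 0 → ptTab.at (uCode (c • v)) = ptTab.at (uCode v)) ∧
      ∃ c : F4, c ≠ 0 ∧ uPt (ptTab.at (uCode v)) = c • v := by
  obtain ⟨hlt, hv⟩ := uVec_uCode v
  have h := chkVec_all _ hlt
  have hne : Nat.beq (uCode v) 0 = false := Bool.eq_false_iff.2 fun e => h0 (by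
    rw [← hv, Nat.eq_of_beq_eq_true e]
    funext i
    show F4.toF (0 / 4 ^ (i : ℕ) % 4) = 0
    rw [Nat.zero_div]
    rfl)
  simp only [chkVec, force_eq, hv, hi, decide_true, Bool.not_true, hne, Bool.false_or, Bool.and_eq_true,
    List.all_eq_true, List.any_eq_true, decide_eq_true_eq] at h
  obtain ⟨⟨h1, h2⟩, c, hc, h3⟩ := h
  refine ⟨Nat.le_of_ble_eq_true h1, fun d hd => Nat.eq_of_beq_eq_true (h2 d ?_), c, ?_, h3⟩
  · cases d <;> first | exact absurd rfl hd | decide
  · rintro rfl; revert hc; decide

theorem uPt_spec (b : Fin 693) : hermForm 6 F4 2 (uPt b) (uPt b) = 0 ∧ uPt b ≠ 0 ∧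
    ptTab.at (uCode (uPt b)) = (b : ℕ) := by
  have h := chkPt_all b b.2
  simp only [chkPt, Bool.and_eq_true, decide_eq_true_eq] at h
  exact ⟨h.1.1, h.1.2, Nat.eq_of_beq_eq_true h.2⟩

theorem uMove_iso (M : SU 6 F4 2) (b : Fin 693) :
    hermForm 6 F4 2 (suVal M *ᵥ uPt b) (suVal M *ᵥ uPt b) = 0 ∧ suVal M *ᵥ uPt b ≠ 0 := by
  refine ⟨(M.2 (uPt b) (uPt b)).trans (uPt_spec b).1, fun h => (uPt_spec b).2.1 ?_⟩
  have h1 : suVal (M⁻¹ * M) *ᵥ uPt b = 0 := by rw [suVal_mul, ← Matrix.mulVec_mulVec, h, Matrix.mulVec_zero]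
  rw [inv_mul_cancel] at h1
  simpa [suVal] using h1

theorem uMove_val (M : SU 6 F4 2) (b : Fin 693) :
    (uMove M b : ℕ) = ptTab.at (uCode (suVal M *ᵥ uPt b)) :=
  Nat.mod_eq_of_lt (isotropic_point (uMove_iso M b).2 (uMove_iso M b).1).1

theorem uMove_mul (M M' : SU 6 F4 2) (b : Fin 693) : uMove (M * M') b = uMove M (uMove M' b) := by
  apply Fin.ext
  rw [uMove_val, uMove_val, uMove_val]
  obtain ⟨-, -, c, hc, e⟩ := isotropic_point (uMove_iso M' b).2 (uMove_iso M' b).1
  rw [e, Matrix.mulVec_smul, suVal_mul, ← Matrix.mulVec_mulVec]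
  have hi : hermForm 6 F4 2 (suVal M *ᵥ (suVal M' *ᵥ uPt b)) (suVal M *ᵥ (suVal M' *ᵥ uPt b)) = 0 :=
    (M.2 _ _).trans (uMove_iso M' b).1
  have h0 : suVal M *ᵥ (suVal M' *ᵥ uPt b) ≠ 0 := by
    rw [Matrix.mulVec_mulVec, ← suVal_mul]; exact (uMove_iso (M * M') b).2
  exact ((isotropic_point h0 hi).2.1 c hc).symm

theorem uMove_one (b : Fin 693) : uMove 1 b = b := by
  apply Fin.ext
  rw [uMove_val]
  have : suVal (1 : SU 6 F4 2) = 1 := rfl
  rw [this, Matrix.one_mulVec]
  exact (uPt_spec b).2.2

/-- The action on the isotropic points. -/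
noncomputable def uHom : SU 6 F4 2 →* Equiv.Perm (Fin actU.N) where
  toFun M :=
    { toFun := uMove M
      invFun := uMove M⁻¹
      left_inv := fun b => (uMove_mul M⁻¹ M b).symm.trans (by rw [inv_mul_cancel]; exact uMove_one b)
      right_inv := fun b => (uMove_mul M M⁻¹ b).symm.trans (by rw [mul_inv_cancel]; exact uMove_one b) }
  map_one' := Equiv.ext uMove_one
  map_mul' M M' := Equiv.ext (uMove_mul M M')

theorem uHom_gen (s : Fin 9) (b : Fin actU.N) : (uHom (uGen s) b : ℕ) = actU.im b s := by
  refine (uMove_val (uGen s) b).trans ?_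
  exact Nat.eq_of_beq_eq_true (List.all_eq_true.1 (chkU_all b b.2) s (List.mem_range.2 s.2))

theorem uMove_center {M : SU 6 F4 2} (hM : M ∈ Subgroup.center (SU 6 F4 2)) (b : Fin 693) : uMove M b = b := by
  obtain ⟨c, hc⟩ := suVal_scalar_of_mem_center F4.card_sq hM
  refine Fin.ext ?_
  rw [uMove_val]
  have e : suVal M *ᵥ uPt b = c • uPt b := by
    rw [hc, Matrix.scalar_apply]
    funext i
    rw [Matrix.mulVec_diagonal, Pi.smul_apply, smul_eq_mul]
  have hc0 : c ≠ 0 := by
    rintro rfl
    rw [zero_smul] at e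
    exact (uMove_iso M b).2 e
  rw [e, (isotropic_point (uPt_spec b).2.1 (uPt_spec b).1).2.1 c hc0]
  exact (uPt_spec b).2.2

theorem uHom_center {M : SU 6 F4 2} (hM : M ∈ Subgroup.center (SU 6 F4 2)) : uHom M = 1 :=
  Equiv.ext (uMove_center hM)

theorem card_center_SU6 : Nat.card (Subgroup.center (SU 6 F4 2)) = 3 := by
  rw [natCard_center_SU F4.card_sq (by decide)]
  rfl

end Cfsg.Agent.Spor.Cos.Fi22
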