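import Cfsg.Agent.Lib.Spor.Cos.Fi22.Trans
import Cfsg.Agent.Lib.Spor.Cos.Fi22.UnitPoints
import Cfsg.Agent.Lib.Spor.Cos.Fi22.Uu0
import Cfsg.Agent.Lib.Spor.Cos.Fi22.Uu1
import Cfsg.Agent.Lib.Spor.Cos.Fi22.Uu2
import Cfsg.Agent.Lib.Spor.Cos.Fi22.Uu3
import Cfsg.Agent.Lib.Spor.Cos.Fi22.Uu4
import Cfsg.Agent.Lib.Spor.Cos.Fi22.Uu5
import Cfsg.Agent.Lib.Spor.Cos.Double

/-!
The centraliser of a transposition of Fi22 as a double cover of a unitary group.
-/

set_option autoImplicit false
set_option maxRecDepth 100000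
set_option maxHeartbeats 1000000

open Cfsg.Spor Cfsg.Agent.Classical

namespace Cfsg.Agent.Spor.Cos.Fi22

/-- The point stabiliser. -/
noncomputable abbrev KH : Subgroup Spor.Fi22 := val g sh0W

/-- Its generators. -/
noncomputable def hK (s : ℕ) : KH :=
  if hs : s < 9 then ⟨ev g (sh0W.getD s []), mem_val (by interval_cases s <;> decide)⟩ else 1

theorem hK_coe {s : ℕ} (hs : s < 9) : (hK s : Spor.Fi22) = ev g (sh0W.getD s []) := by simp [hK, hs]

theorem hK_gen : Subgroup.closure {x | ∃ s, s < 9 ∧ hK s = x} = ⊤ := by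
  rw [← (Subgroup.map_injective KH.subtype_injective).eq_iff, ← MonoidHom.range_eq_map, KH.range_subtype,
    MonoidHom.map_closure]
  show _ = Subgroup.closure {y | ∃ w ∈ sh0W, ev g w = y}
  congr 1
  ext y
  simp only [Set.mem_image, Set.mem_setOf_eq, Subgroup.coe_subtype]
  constructor
  · rintro ⟨x, ⟨i, hi, rfl⟩, rfl⟩
    exact ⟨_, (show sh0W.getD i [] ∈ sh0W by interval_cases i <;> decide), (hK_coe hi).symm⟩
  · rintro ⟨w, hw, rfl⟩
    obtain ⟨i, hi, rfl⟩ := List.getElem_of_mem hw
    have hi' : i < 9 := hi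
    refine ⟨_, ⟨i, hi', rfl⟩, ?_⟩
    rw [hK_coe hi', List.getD_eq_getElem]

/-- The number of a point among the 693, shifted by one. -/
noncomputable def numPt (p : Fin actB.N) : Option (Fin actU.N) :=
  if h : 0 < num693.at p ∧ num693.at p - 1 < 693 then some ⟨num693.at p - 1, h.2⟩ else none

/-- The check that a generator respects the numbering. -/
noncomputable def chkNum (p : ℕ) : Bool :=
  (List.range 9).all fun s => force (num693.at p) fun b => force (num693.at (actB.go (sh0W.getD s []) p)) fun b' =>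
    bif Nat.beq b 0 then Nat.beq b' 0
    else Nat.blt (b - 1) 693 && Nat.beq b' (actU.im (b - 1) s + 1) && Nat.beq (list693.getD (b - 1) 0) p

theorem num_chk : ∀ p < 3510, chkNum p = true := by
  refine of_blocks (size := 512) (b := 7) (by decide) (by decide) fun j hj => ?_
  interval_cases j <;> decide +kernel

theorem actU_inv : ∀ p < 693, actU.chkInv p = true := by
  refine of_blocks (size := 693) (b := 1) (by decide) (by decide) fun j hj => ?_
  interval_cases j; decide +kernel

theorem num_list : ∀ b : ℕ, b < 693 → (decide (list693.getD b 0 < 3510) && Nat.beq (num693.at (list693.getD b 0)) (b + 1)) = true := by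
  refine of_blocks (size := 693) (b := 1) (by decide) (by decide) fun j hj => ?_
  interval_cases j; decide +kernel

theorem numPt_gen (s : ℕ) (p : Fin actB.N) : numPt (piB (hK s : Spor.Fi22) p) = (numPt p).map (actU.perm s) := by
  by_cases hs : s < 9
  · have hl : Act.lettersOk actB.n sh0W = true := by decide +kernel
    have hw : sh0W.getD s [] ∈ sh0W := by interval_cases s <;> decide
    have e : (piB (hK s : Spor.Fi22) p : ℕ) = actB.go (sh0W.getD s []) p := by
      rw [hK_coe hs]; exact homB.apply_ev _ (Act.lt_of_lettersOk hl hw) p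
    have h := List.all_eq_true.1 (num_chk p p.2) s (List.mem_range.2 hs)
    simp only [force_eq] at h
    generalize hb : num693.at (p : ℕ) = b at h
    rcases b with _ | b
    · simp only [show Nat.beq 0 0 = true from rfl, Bool.cond_true] at h
      have h' : num693.at (piB (hK s : Spor.Fi22) p : ℕ) = 0 := e ▸ Nat.eq_of_beq_eq_true h
      simp [numPt, hb, h']
    · simp only [show Nat.beq (b + 1) 0 = false from rfl, Bool.cond_false, Bool.and_eq_true,
        Nat.add_sub_cancel] at h
      have hb693 : b < 693 := Nat.le_of_ble_eq_true h.1.1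
      have h' : num693.at (piB (hK s : Spor.Fi22) p : ℕ) = actU.im b s + 1 := e ▸ Nat.eq_of_beq_eq_true h.1.2
      have h2 := actU.perm_apply actU_inv (show s < actU.n from hs) ⟨b, hb693⟩
      have him : actU.im b s < 693 := h2 ▸ (actU.perm s ⟨b, hb693⟩).isLt
      simp only [numPt, hb, h', Nat.add_sub_cancel, Nat.succ_pos, true_and, dif_pos hb693, dif_pos him, Option.map_some]
      exact congrArg some (Fin.ext h2.symm)
  · rw [show hK s = 1 by simp [hK, hs], OneMemClass.coe_one, map_one, actU.perm_out s (show actU.n ≤ s from Nat.not_lt.1 hs)]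
    simp

theorem numPt_list (b : Fin actU.N) : ∃ h : list693.getD b 0 < actB.N, numPt ⟨list693.getD b 0, h⟩ = some b := by
  have h := num_list b b.2
  simp only [Bool.and_eq_true, decide_eq_true_eq] at h
  refine ⟨h.1, ?_⟩
  have e : num693.at (list693.getD b 0) = (b : ℕ) + 1 := Nat.eq_of_beq_eq_true h.2
  have hb : (b : ℕ) < 693 := b.2
  unfold numPt
  rw [dif_pos ⟨by show 0 < num693.at (list693.getD b 0); omega, by show num693.at (list693.getD b 0) - 1 < 693; omega⟩]
  exact congrArg some (Fin.ext (by show num693.at (list693.getD b 0) - 1 = b; omega))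

theorem numPt_inj {p q : Fin actB.N} {b : Fin actU.N} (hp : numPt p = some b) (hq : numPt q = some b) : p = q := by
  have key : ∀ r : Fin actB.N, numPt r = some b → list693.getD b 0 = (r : ℕ) := by
    intro r hr
    unfold numPt at hr
    split_ifs at hr with h
    have hb : (b : ℕ) = num693.at (r : ℕ) - 1 := congrArg Fin.val (Option.some.inj hr).symm
    have h0 := List.all_eq_true.1 (num_chk r r.2) 0 (List.mem_range.2 (by omega))
    simp only [force_eq, show Nat.beq (num693.at (r : ℕ)) 0 = false from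
      Bool.eq_false_iff.2 fun e => by have := Nat.eq_of_beq_eq_true e; omega, Bool.cond_false, Bool.and_eq_true] at h0
    rw [hb]
    exact Nat.eq_of_beq_eq_true h0.2
  exact Fin.ext ((key p hp).symm.trans (key q hq))

theorem exists_psi : ∃ ψ : KH →* Equiv.Perm (Fin actU.N),
    (∀ s, ψ (hK s) = actU.perm s) ∧ ∀ (y : KH) (p : Fin actB.N), numPt (piB (y : Spor.Fi22) p) = (numPt p).map (ψ y) := by
  have ex : ∀ y : KH, ∃ σ : Equiv.Perm (Fin actU.N), ∀ p, numPt (piB (y : Spor.Fi22) p) = (numPt p).map σ := by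
    intro y
    have hy : y ∈ Subgroup.closure {x | ∃ s, s < 9 ∧ hK s = x} := hK_gen ▸ Subgroup.mem_top y
    induction hy using Subgroup.closure_induction with
    | mem x hx => obtain ⟨s, -, rfl⟩ := hx; exact ⟨_, numPt_gen s⟩
    | one => exact ⟨1, fun p => by simp⟩
    | mul a b _ _ ha hb =>
      obtain ⟨σ, hσ⟩ := ha
      obtain ⟨τ, hτ⟩ := hb
      exact ⟨σ * τ, fun p => by
        rw [Subgroup.coe_mul, map_mul, Equiv.Perm.mul_apply, hσ, hτ, Option.map_map]; rfl⟩
    | inv a _ ha =>
      obtain ⟨σ, hσ⟩ := ha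
      refine ⟨σ⁻¹, fun p => ?_⟩
      have := hσ (piB (a : Spor.Fi22)⁻¹ p)
      rw [← Equiv.Perm.mul_apply, ← map_mul, mul_inv_cancel, map_one, Equiv.Perm.one_apply] at this
      rw [this, Option.map_map, Subgroup.coe_inv]
      have : ⇑σ⁻¹ ∘ ⇑σ = id := funext fun x => σ.symm_apply_apply x
      rw [this, Option.map_id_fun, id]
  choose σ hσ using ex
  have uniq : ∀ (y : KH) (τ : Equiv.Perm (Fin actU.N)),
      (∀ p, numPt (piB (y : Spor.Fi22) p) = (numPt p).map τ) → σ y = τ := by
    intro y τ hτ
    refine Equiv.ext fun b => ?_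
    obtain ⟨h, hp⟩ := numPt_list b
    have := (hσ y ⟨_, h⟩).symm.trans (hτ _)
    rw [hp] at this
    exact Option.some.inj this
  refine ⟨{ toFun := σ
            map_one' := uniq 1 1 fun p => by simp
            map_mul' := fun a b => uniq _ _ fun p => by
              rw [Subgroup.coe_mul, map_mul, Equiv.Perm.mul_apply, hσ, hσ, Option.map_map]; rfl }, fun s => ?_, hσ⟩
  exact uniq _ _ (numPt_gen s)

/-- The action on the 693 points. -/
noncomputable def psiU : KH →* Equiv.Perm (Fin actU.N) := exists_psi.choose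

theorem psiU_gen (s : ℕ) : psiU (hK s) = actU.perm s := exists_psi.choose_spec.1 s

theorem psiU_spec (y : KH) (p : Fin actB.N) : numPt (piB (y : Spor.Fi22) p) = (numPt p).map (psiU y) :=
  exists_psi.choose_spec.2 y p

/-- Conjugators of the transposition to chosen members of the stabiliser. -/
def conjW : List (List ℕ) := [[1, 2, 3, 7, 4, 5, 3, 4, 2, 3, 7, 6, 5, 4, 3, 2, 0, 1], [1, 2, 0, 1], [2, 3, 1, 2, 0, 1], [3, 4, 2, 3, 1, 2, 0, 1], [4, 5, 3, 4, 2, 3, 1, 2, 0, 1], [5, 6, 4, 5, 3, 4, 2, 3, 1, 2, 0, 1], [3, 7, 2, 3, 1, 2, 0, 1], [7, 8, 3, 7, 2, 3, 1, 2, 0, 1], [5, 4, 3, 7, 2, 3, 4, 1, 2, 3, 7, 5, 4, 3, 2, 1]]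

theorem conjW_lt : ∀ w ∈ conjW, ∀ s ∈ w, s < 9 := by decide

/-- The point of a conjugate. -/
noncomputable def conjPt (w : List ℕ) : Fin actB.N := piB (ev g w) baseB

theorem commute_conj_iff {y : Spor.Fi22} (w : List ℕ) :
    piB y (conjPt w) = conjPt w ↔ (ev g w)⁻¹ * y * ev g w ∈ KH := by
  rw [mem_sh_iff, map_mul, map_mul, map_inv, Equiv.Perm.mul_apply, Equiv.Perm.mul_apply, Equiv.Perm.inv_eq_iff_eq]
  rfl

theorem commute_of_fix {y : Spor.Fi22} {w : List ℕ} (h : piB y (conjPt w) = conjPt w) :
    y * (ev g w * tz * (ev g w)⁻¹) = ev g w * tz * (ev g w)⁻¹ * y := by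
  have := tz_comm _ ((commute_conj_iff w).1 h)
  calc y * (ev g w * tz * (ev g w)⁻¹) = ev g w * ((ev g w)⁻¹ * y * ev g w * tz) * (ev g w)⁻¹ := by group
    _ = _ := by rw [this]; group

theorem fix_of_commute {y : Spor.Fi22} {w : List ℕ}
    (h : y * (ev g w * tz * (ev g w)⁻¹) = ev g w * tz * (ev g w)⁻¹ * y) : piB y (conjPt w) = conjPt w := by
  refine (commute_conj_iff w).2 ?_
  show _ ∈ val g sh0W
  rw [← centralizer_tz, Subgroup.mem_centralizer_singleton_iff]
  calc (ev g w)⁻¹ * y * ev g w * tz = (ev g w)⁻¹ * (y * (ev g w * tz * (ev g w)⁻¹)) * ev g w := by group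
    _ = _ := by rw [h]; group

theorem gen_eq_conj : ∀ s, 1 ≤ s → s < 9 →
    (hK s : Spor.Fi22) = ev g (conjW.getD s []) * tz * (ev g (conjW.getD s []))⁻¹ := by
  intro s h1 hs
  have hl : ∀ t ∈ conjW.getD s [], t < 9 := conjW_lt _ (by interval_cases s <;> decide)
  have hw : Act.lettersOk 9 sh0W = true := by decide +kernel
  have hw' : sh0W.getD s [] ∈ sh0W := by interval_cases s <;> decide
  rw [hK_coe hs]
  refine eq_of_mul_inv_eq_one ?_
  have e : ev g (conjW.getD s [] ++ [0] ++ (conjW.getD s []).reverse) =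
      ev g (conjW.getD s []) * tz * (ev g (conjW.getD s []))⁻¹ := by
    rw [ev_append, ev_append, ev_reverse (fun t _ => g_sq t) _ hl]
    rfl
  have hl2 : ∀ t ∈ conjW.getD s [] ++ [0] ++ (conjW.getD s []).reverse, t < 9 := by
    intro t ht
    simp only [List.mem_append, List.mem_singleton, List.mem_reverse] at ht
    rcases ht with (h | h) | h
    · exact hl t h
    · omega
    · exact hl t h
  rw [← e, ← ev_reverse (fun t _ => g_sq t) _ hl2, ← ev_append]
  interval_cases s <;> exact eq_one_of_chk (by decide +kernel) (by decide +kernel)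

/-- The transposition inside its centraliser. -/
noncomputable def zK : KH := ⟨tz, tz_mem⟩

theorem zK_center : zK ∈ Subgroup.center KH :=
  Subgroup.mem_center_iff.2 fun y => Subtype.ext (tz_comm y y.2)

theorem ker_psiU_le : psiU.ker ≤ Subgroup.center KH := by
  intro y hy
  refine Subgroup.mem_center_iff.2 fun u => ?_
  have hle : (⊤ : Subgroup KH) ≤ Subgroup.centralizer {y} := by
    rw [← hK_gen, Subgroup.closure_le]
    rintro _ ⟨s, hs, rfl⟩
    refine Subgroup.mem_centralizer_singleton_iff.2 ?_
    rcases Nat.eq_zero_or_pos s with rfl | h1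
    · refine Subtype.ext ?_
      show (hK 0 : Spor.Fi22) * y = y * hK 0
      rw [hK_coe hs]
      exact (tz_comm y y.2).symm
    · have hfix : piB (y : Spor.Fi22) (conjPt (conjW.getD s [])) = conjPt (conjW.getD s []) := by
        have hl : ∀ t ∈ conjW.getD s [], t < 9 := conjW_lt _ (by interval_cases s <;> decide)
        have hb : ∃ b : Fin actU.N, numPt (conjPt (conjW.getD s [])) = some b := by
          have e : (conjPt (conjW.getD s []) : ℕ) = actB.go (conjW.getD s []) 0 := homB.apply_ev _ hl baseB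
          have hpos : 0 < num693.at (actB.go (conjW.getD s []) 0) ∧ num693.at (actB.go (conjW.getD s []) 0) - 1 < 693 := by
            interval_cases s <;> decide +kernel
          rw [← e] at hpos
          exact ⟨_, dif_pos hpos⟩
        obtain ⟨b, hb⟩ := hb
        have h := psiU_spec y (conjPt (conjW.getD s []))
        rw [MonoidHom.mem_ker.1 hy, hb] at h
        exact numPt_inj h hb
      refine Subtype.ext ?_
      show (hK s : Spor.Fi22) * y = y * hK s
      rw [gen_eq_conj s h1 hs]
      exact (commute_of_fix hfix).symm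
  exact Subgroup.mem_centralizer_singleton_iff.1 (hle (Subgroup.mem_top u))

/-- The only points fixed by seven of the generators. -/
theorem fixed_pts : ∀ p < 14080, (!actA.chkFix uu1W p || Nat.beq p 0 || Nat.beq p 1) = true := by
  refine of_blocks (size := 1024) (b := 14) (by decide) (by decide) fun j hj => ?_
  interval_cases j <;> decide +kernel

theorem card_KH : Nat.card KH = 18393661440 := by
  show Nat.card (val g sh0W) = _
  rw [stabB]
  exact card_stab trB card_eq

theorem central_eq_one {y : Spor.Fi22} (hy : y ∈ KH) (hc : ∀ u ∈ KH, u * y = y * u)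
    (h0 : piA y baseA = baseA) : y = 1 := by
  have := finite
  have h6 := (Lev.nil : Lev g [] 1 fun _ => True)
  have h5 := h6.step homA uu5_ok (by decide +kernel) (by decide +kernel) (by decide +kernel)
  have h4 := h5.step homA uu4_ok (by decide +kernel) (by decide +kernel) (by decide +kernel)
  have h3 := h4.step homA uu3_ok (by decide +kernel) (by decide +kernel) (by decide +kernel)
  have h2 := h3.step homA uu2_ok (by decide +kernel) (by decide +kernel) (by decide +kernel)
  have h1 := h2.step homB uu1_ok (by decide +kernel) (by decide +kernel) (by decide +kernel)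
  have h0' := h1.step homA uu0_ok (by decide +kernel) (by decide +kernel) (by decide +kernel)
  have hsh : val g uu0W = KH := rfl
  have hA : ∀ (x : ℕ) (hx : x < actA.N), uu0.mem x = true → piA y ⟨x, hx⟩ = ⟨x, hx⟩ := by
    intro x hx hm
    obtain ⟨u, hu, e⟩ := uu0_ok.mem_orbit homA baseA rfl (p := ⟨x, hx⟩) hm
    have hu' : u ∈ KH := hsh ▸ hu
    rw [← e, ← Equiv.Perm.mul_apply, ← map_mul, ← hc u hu', map_mul, Equiv.Perm.mul_apply, h0]
  have hB : piB y ⟨1911, uu1_ok.root_lt⟩ = ⟨1911, uu1_ok.root_lt⟩ := by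
    have e : conjPt (conjW.getD 0 []) = ⟨1911, uu1_ok.root_lt⟩ := Fin.ext
      ((homB.apply_ev _ (conjW_lt _ (by decide)) baseB).trans
        (show actB.go (conjW.getD 0 []) 0 = 1911 by decide +kernel))
    rw [← e]
    refine fix_of_commute (hc _ ?_).symm
    show _ ∈ val g sh0W
    have hl := conjW_lt (conjW.getD 0 []) (by decide)
    have hd : ev g (conjW.getD 0 [] ++ [0] ++ (conjW.getD 0 []).reverse) =
        ev g (conjW.getD 0 []) * tz * (ev g (conjW.getD 0 []))⁻¹ := by
      rw [ev_append, ev_append, ev_reverse (fun t _ => g_sq t) _ hl]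
      rfl
    rw [← hd, mem_sh_iff]
    exact Fin.ext ((homB.apply_ev _ (by decide +kernel) baseB).trans
      (show actB.go (conjW.getD 0 [] ++ [0] ++ (conjW.getD 0 []).reverse) 0 = 0 by decide +kernel))
  exact h0'.fix (le_of_eq (by rw [hsh, card_KH]; rfl)) y (hsh ▸ hy) ⟨hA 0 (by decide +kernel) (by decide +kernel), hB, hA 134 (by decide +kernel) (by decide +kernel), hA 13 (by decide +kernel) (by decide +kernel), hA 14 (by decide +kernel) (by decide +kernel), hA 15 (by decide +kernel) (by decide +kernel), trivial⟩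

theorem center_eq : Subgroup.center KH = Subgroup.zpowers zK := by
  have := finite
  refine le_antisymm (fun y hy => ?_) ((Subgroup.zpowers_le).2 zK_center)
  have hc : ∀ u ∈ KH, u * (y : Spor.Fi22) = y * u := fun u hu =>
    congrArg Subtype.val (Subgroup.mem_center_iff.1 hy ⟨u, hu⟩)
  have hfix : actA.chkFix uu1W (piA (y : Spor.Fi22) baseA) = true := by
    refine List.all_eq_true.2 fun w hw => Nat.beq_eq ▸ ?_
    have hl : Act.lettersOk actA.n uu1W = true := by decide +kernel
    have h00 : actA.chkFix uu1W 0 = true := by decide +kernel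
    have hwK : ev g w ∈ KH := by
      have h := mem_val_of_wordsIn (g := g) (ws := sh0W) (show wordsIn uu1W sh0W = true by decide +kernel) hw
      exact h
    rw [← homA.apply_ev w (Act.lt_of_lettersOk hl hw), ← Equiv.Perm.mul_apply, ← map_mul, hc _ hwK, map_mul,
      Equiv.Perm.mul_apply, homA.apply_ev_eq hl (p := baseA) h00 hw]
  have h := fixed_pts _ (piA (y : Spor.Fi22) baseA).2
  simp only [hfix, Bool.not_true, Bool.false_or, Bool.or_eq_true] at h
  rcases h with h | h
  · have : y = 1 := Subtype.ext (central_eq_one y.2 hc (Fin.ext (Nat.eq_of_beq_eq_true h)))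
    rw [this]; exact one_mem _
  · have e : piA ((zK * y : KH) : Spor.Fi22) baseA = baseA := by
      apply Fin.ext
      show (piA (tz * (y : Spor.Fi22)) baseA : ℕ) = 0
      rw [map_mul, Equiv.Perm.mul_apply]
      refine (homA.apply_ev [0] (by decide) _).trans ?_
      rw [Nat.eq_of_beq_eq_true h]
      decide +kernel
    have hc' : ∀ u ∈ KH, u * ((zK * y : KH) : Spor.Fi22) = ((zK * y : KH) : Spor.Fi22) * u := fun u hu =>
      congrArg Subtype.val (Subgroup.mem_center_iff.1 (mul_mem zK_center hy) ⟨u, hu⟩)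
    have h1 : zK * y = 1 := Subtype.ext (central_eq_one (zK * y).2 hc' e)
    rw [eq_inv_of_mul_eq_one_right h1]
    exact inv_mem (Subgroup.mem_zpowers zK)

theorem card_center : Nat.card (Subgroup.center KH) = 2 := by
  rw [center_eq, Nat.card_zpowers]
  exact (orderOf_injective KH.subtype KH.subtype_injective zK).symm.trans orderOf_tz

theorem psiU_zK : psiU zK = 1 := by
  have e : zK = hK 0 := Subtype.ext (by rw [hK_coe (show 0 < 9 by decide)]; rfl)
  rw [e, psiU_gen]
  refine Equiv.ext fun b => Fin.ext ?_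
  rw [actU.perm_apply actU_inv (by decide) b]
  have h : ∀ p < 693, Nat.beq (actU.im p 0) p = true := by
    refine of_blocks (size := 693) (b := 1) (by decide) (by decide) fun j hj => ?_
    interval_cases j; decide +kernel
  exact Nat.eq_of_beq_eq_true (h b b.2)

theorem ker_psiU : psiU.ker = Subgroup.center KH := by
  refine le_antisymm ker_psiU_le ?_
  rw [center_eq, Subgroup.zpowers_le, MonoidHom.mem_ker]
  exact psiU_zK

theorem card_PSU6 : Nat.card (PSU 6 F4 2) = 9196830720 := by
  have h1 := natCard_GU_eq_SU (F := F4) F4.card_sq (show 1 ≤ 6 by decide)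
  have h2 := order_GU (F := F4) F4.card_sq 6
  rw [h1] at h2
  push_cast at h2
  simp only [Finset.prod_range_succ, Finset.prod_range_zero] at h2
  norm_num at h2
  have h3 : Nat.card (SU 6 F4 2) = 27590492160 := by omega
  have h4 := (Subgroup.center (SU 6 F4 2)).index_mul_card
  rw [card_center_SU6, h3] at h4
  show Nat.card (SU 6 F4 2 ⧸ Subgroup.center (SU 6 F4 2)) = _
  rw [← Subgroup.index]
  omega

theorem nonempty_quotient : Nonempty (KH ⧸ Subgroup.center KH ≃* PSU 6 F4 2) := by
  have := finite
  let ρ : PSU 6 F4 2 →* Equiv.Perm (Fin actU.N) :=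
    QuotientGroup.lift _ uHom fun _ hM => MonoidHom.mem_ker.2 (uHom_center hM)
  have hρ : ∀ M, ρ (QuotientGroup.mk M) = uHom M := fun M => rfl
  have hle : psiU.range ≤ ρ.range := by
    rw [MonoidHom.range_eq_map, ← hK_gen, MonoidHom.map_closure, Subgroup.closure_le]
    rintro _ ⟨_, ⟨s, hs, rfl⟩, rfl⟩
    refine ⟨QuotientGroup.mk (uGen ⟨s, hs⟩), Equiv.ext fun b => Fin.ext ?_⟩
    rw [hρ, psiU_gen, uHom_gen, actU.perm_apply actU_inv hs]
  have hq : Nat.card psiU.range = 9196830720 := by
    rw [← Subgroup.index_ker, ker_psiU]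
    have h := (Subgroup.center KH).index_mul_card
    rw [card_center, card_KH] at h
    omega
  haveI : Finite (SU 6 F4 2) := Subtype.finite
  haveI : Finite (PSU 6 F4 2) := Quotient.finite _
  have hs := Nat.card_le_card_of_surjective _ ρ.rangeRestrict_surjective
  have hsub := Subgroup.card_le_of_le hle
  rw [card_PSU6] at hs
  rw [hq] at hsub
  have heq : psiU.range = ρ.range := by
    refine SetLike.coe_injective (Set.eq_of_subset_of_ncard_le hle ?_)
    rw [← Nat.card_coe_set_eq, ← Nat.card_coe_set_eq]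
    exact hs.trans hq.ge
  have hinj : Function.Injective ρ := by
    have hb : Function.Bijective ρ.rangeRestrict :=
      (Nat.bijective_iff_surjective_and_card _).2 ⟨ρ.rangeRestrict_surjective, by rw [card_PSU6]; omega⟩
    exact fun a b h => hb.1 (Subtype.ext h)
  exact ⟨((QuotientGroup.quotientMulEquivOfEq ker_psiU.symm).trans (QuotientGroup.quotientKerEquivRange psiU)).trans
    ((MulEquiv.subgroupCongr heq).trans (MonoidHom.ofInjective hinj).symm)⟩

theorem no_complement (L : Subgroup KH) : ¬ (Subgroup.center KH).IsComplement' L := by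
  intro hL
  have hi : L.index = 2 := by rw [hL.index_eq_card, card_center]
  have hev : ∀ w : List ℕ, (∀ s ∈ w, s < 9) →
      ((ev hK w : KH) : Spor.Fi22) = ev g ((w.map fun s => sh0W.getD s []).flatten) := by
    intro w
    induction w with
    | nil => intro; rfl
    | cons s w ih =>
      intro h
      rw [List.map_cons, List.flatten_cons, ev_append, ← ih fun t ht => h t (List.mem_cons_of_mem _ ht), ev,
        Subgroup.coe_mul, hK_coe (h s (List.mem_cons_self ..))]
  have one_of : ∀ w : List ℕ, (∀ s ∈ w, s < 9) → Act.lettersOk 9 [(w.map fun s => sh0W.getD s []).flatten] = true →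
      chkPow actA [0, 1, 2, 3, 67, 4, 5, 23] 1 ((w.map fun s => sh0W.getD s []).flatten) = true → ev hK w = 1 :=
    fun w h h1 h2 => Subtype.ext ((hev w h).trans (eq_one_of_chk h1 h2))
  have e : ∀ x y, x < 9 → y < 9 → ev hK [x, y, x, y, x, y] = 1 → (hK x ∈ L ↔ hK y ∈ L) :=
    fun x y _ _ h => all_mem_of_index_two hi h
  have e12 := e 1 2 (by decide) (by decide) (one_of _ (by decide) (by decide +kernel) (by decide +kernel))
  have e23 := e 2 3 (by decide) (by decide) (one_of _ (by decide) (by decide +kernel) (by decide +kernel))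
  have e34 := e 3 4 (by decide) (by decide) (one_of _ (by decide) (by decide +kernel) (by decide +kernel))
  have e45 := e 4 5 (by decide) (by decide) (one_of _ (by decide) (by decide +kernel) (by decide +kernel))
  have e26 := e 2 6 (by decide) (by decide) (one_of _ (by decide) (by decide +kernel) (by decide +kernel))
  have e67 := e 6 7 (by decide) (by decide) (one_of _ (by decide) (by decide +kernel) (by decide +kernel))
  have e48 := e 4 8 (by decide) (by decide) (one_of _ (by decide) (by decide +kernel) (by decide +kernel))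
  have all : ∀ t < 9, 1 ≤ t → (hK t ∈ L ↔ hK 1 ∈ L) := by
    intro t ht h1
    interval_cases t <;> tauto
  have h63 : ev hK (List.replicate 9 [1, 2, 3, 4, 5, 6, 7]).flatten = 1 :=
    one_of _ (by decide) (by decide +kernel) (by decide +kernel)
  have h1 : hK 1 ∈ L := by
    by_contra h0
    have := mem_of_index_two hi (h := hK) (List.replicate 9 [1, 2, 3, 4, 5, 6, 7]).flatten (fun t ht => all t
      (by revert t; decide) (by revert t; decide)) h0
    rw [h63] at this
    exact absurd (this.1 L.one_mem) (by decide)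
  have hz : ev hK ((List.replicate 9 [2, 3, 4, 5, 8, 7, 1]).flatten ++ [0]) = 1 :=
    one_of _ (by decide) (by decide +kernel) (by decide +kernel)
  have hin : ev hK (List.replicate 9 [2, 3, 4, 5, 8, 7, 1]).flatten ∈ L :=
    ev_mem _ fun t ht => (all t (by revert t; decide) (by revert t; decide)).2 h1
  rw [ev_append] at hz
  have h0 : hK 0 ∈ L := by
    have : hK 0 = (ev hK (List.replicate 9 [2, 3, 4, 5, 8, 7, 1]).flatten)⁻¹ :=
      eq_inv_of_mul_eq_one_right (by simpa [ev] using hz)
    rw [this]
    exact inv_mem hin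
  have htop : L = ⊤ := top_le_iff.1 (hK_gen ▸ (Subgroup.closure_le _).2 (by
    rintro _ ⟨s, hs, rfl⟩
    rcases Nat.eq_zero_or_pos s with rfl | hs1
    · exact h0
    · exact (all s hs hs1).2 h1))
  rw [htop, Subgroup.index_top] at hi
  omega

theorem isNonsplitDoubleCover : IsNonsplitDoubleCover KH (PSU 6 F4 2) :=
  ⟨card_center, nonempty_quotient, no_complement⟩

theorem centralizer_conj {d : Spor.Fi22} (hd : d ∈ conjugatesOf tz) :
    IsNonsplitDoubleCover (Subgroup.centralizer ({d} : Set Spor.Fi22)) (PSU 6 F4 2) := by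
  obtain ⟨a, rfl⟩ := isConj_iff.1 (show IsConj tz _ from hd)
  have h : (Subgroup.centralizer {tz}).map ((MulAut.conj a : Spor.Fi22 ≃* Spor.Fi22) : Spor.Fi22 →* Spor.Fi22) =
      Subgroup.centralizer {a * tz * a⁻¹} := by
    ext y
    rw [Subgroup.map_equiv_eq_comap_symm, Subgroup.mem_comap, Subgroup.mem_centralizer_singleton_iff,
      Subgroup.mem_centralizer_singleton_iff]
    show a⁻¹ * y * a * tz = tz * (a⁻¹ * y * a) ↔ _
    rw [← mul_left_inj a⁻¹, ← mul_right_inj a]
    simp [mul_assoc]
  rw [centralizer_tz] at h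
  rw [← h]
  exact isNonsplitDoubleCover_congr ((MulAut.conj a).subgroupMap (val g sh0W)) isNonsplitDoubleCover

end Cfsg.Agent.Spor.Cos.Fi22
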