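import Cfsg.Agent.Lib.Spor.Cos.Fi22.ActARel0
import Cfsg.Agent.Lib.Spor.Cos.Fi22.ActARel1
import Cfsg.Agent.Lib.Spor.Cos.Fi22.ActARel2
import Cfsg.Agent.Lib.Spor.Cos.Fi22.ActARel3
import Cfsg.Agent.Lib.Spor.Cos.Fi22.ActARel4

/-! Data and checks for a presented sporadic group. -/

set_option autoImplicit false
set_option maxRecDepth 100000
set_option maxHeartbeats 4000000

namespace Cfsg.Agent.Spor.Cos.Fi22

theorem actA_rels : ∀ i < 14080, (actA.chkFix words) i = true :=
  of_blocks (size := 256) (b := 55) (by decide) (by decide) fun j hj => by
    interval_cases j
    · exact actA_rels0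
    · exact actA_rels1
    · exact actA_rels2
    · exact actA_rels3
    · exact actA_rels4
    · exact actA_rels5
    · exact actA_rels6
    · exact actA_rels7
    · exact actA_rels8
    · exact actA_rels9
    · exact actA_rels10
    · exact actA_rels11
    · exact actA_rels12
    · exact actA_rels13
    · exact actA_rels14
    · exact actA_rels15
    · exact actA_rels16
    · exact actA_rels17
    · exact actA_rels18
    · exact actA_rels19
    · exact actA_rels20
    · exact actA_rels21
    · exact actA_rels22
    · exact actA_rels23
    · exact actA_rels24
    · exact actA_rels25
    · exact actA_rels26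
    · exact actA_rels27
    · exact actA_rels28
    · exact actA_rels29
    · exact actA_rels30
    · exact actA_rels31
    · exact actA_rels32
    · exact actA_rels33
    · exact actA_rels34
    · exact actA_rels35
    · exact actA_rels36
    · exact actA_rels37
    · exact actA_rels38
    · exact actA_rels39
    · exact actA_rels40
    · exact actA_rels41
    · exact actA_rels42
    · exact actA_rels43
    · exact actA_rels44
    · exact actA_rels45
    · exact actA_rels46
    · exact actA_rels47
    · exact actA_rels48
    · exact actA_rels49
    · exact actA_rels50
    · exact actA_rels51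
    · exact actA_rels52
    · exact actA_rels53
    · exact actA_rels54

end Cfsg.Agent.Spor.Cos.Fi22
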