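import Cfsg.Agent.Lib.Spor.Cos.Fi22.Second
import Cfsg.Agent.Lib.Spor.Cos.Fi22.IsSimple
import Cfsg.Agent.Lib.Spor.Cos.Fi22.Sb0
import Cfsg.Agent.Lib.Spor.Cos.Fi22.Sb1
import Cfsg.Agent.Lib.Spor.Cos.Fi22.SbPart
import Cfsg.Prelude.Def_SporadicB

/-!
The transpositions of Fi22.
-/

set_option autoImplicit false
set_option maxRecDepth 100000

open Cfsg.Spor

namespace Cfsg.Agent.Spor.Cos.Fi22

/-- The transposition centralised by the point stabiliser. -/
noncomputable def tz : Spor.Fi22 := ev g [0]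

theorem eq_one_of_chk {w : List ℕ} (hl : Act.lettersOk 9 [w] = true)
    (h : chkPow actA [0, 1, 2, 3, 67, 4, 5, 23] 1 w = true) : ev g w = 1 := by
  simpa using pow_eq_one homA det (Act.lt_of_lettersOk hl (List.mem_singleton_self w)) h

/-- The two suborbit representatives as words. -/
def repWord : ℕ → List ℕ
  | 7 => [7, 4, 3, 1, 2, 0, 1]
  | _ => [1]

theorem repWord_lt : ∀ r ∈ [7, 1], ∀ s ∈ repWord r, s < 9 := by decide

theorem tz_sq : tz * tz = 1 := by simp [tz, ev, g_sq]

theorem ev_pair (r : ℕ) (hr : r ∈ [7, 1]) :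
    ev g (repWord r ++ [0] ++ (repWord r).reverse ++ [0]) = ev g (repWord r) * tz * (ev g (repWord r))⁻¹ * tz := by
  rw [ev_append, ev_append, ev_append, ev_reverse (fun s _ => g_sq s) _ (repWord_lt r hr)]
  rfl

theorem tz_comm : ∀ y ∈ val g sh0W, y * tz = tz * y := by
  intro y hy
  have hle : val g sh0W ≤ Subgroup.centralizer {tz} := by
    refine (Subgroup.closure_le _).2 ?_
    rintro _ ⟨w, hw, rfl⟩
    refine Subgroup.mem_centralizer_singleton_iff.2 ?_
    have key : ev g ([0] ++ w ++ [0] ++ w.reverse) = 1 := by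
      simp only [sh0W, List.mem_cons, List.not_mem_nil, or_false] at hw
      rcases hw with rfl | rfl | rfl | rfl | rfl | rfl | rfl | rfl | rfl <;>
        exact eq_one_of_chk (by decide +kernel) (by decide +kernel)
    have hl : Act.lettersOk 9 sh0W = true := by decide +kernel
    rw [ev_append, ev_append, ev_append, ev_reverse (fun s _ => g_sq s) _ (Act.lt_of_lettersOk hl hw)] at key
    change tz * ev g w * tz * (ev g w)⁻¹ = 1 at key
    calc ev g w * tz = tz * (tz * ev g w * tz) := by simp only [← mul_assoc, tz_sq, one_mul]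
      _ = tz * ev g w := by rw [mul_inv_eq_one.1 key]
  exact Subgroup.mem_centralizer_singleton_iff.1 (hle hy)

theorem mem_sh_iff {y : Spor.Fi22} : y ∈ val g sh0W ↔ piB y baseB = baseB := by rw [stabB, mem_stab]

theorem tz_mem : tz ∈ val g sh0W := mem_val (by decide)

theorem sbList_ok : ∀ o ∈ sbList, o.1.Ok actB sh0W o.2 := by
  intro o ho
  simp only [sbList, List.mem_cons, List.not_mem_nil, or_false] at ho
  rcases ho with rfl | rfl
  · exact sb0_ok
  · exact sb1_ok

/-- Double cosets of the point stabiliser. -/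
theorem cases_double (c : Spor.Fi22) : c ∈ val g sh0W ∨ ∃ r ∈ [7, 1], ∃ h ∈ val g sh0W, ∃ h' ∈ val g sh0W,
    c = h * ev g (repWord r) * h' := by
  by_cases hc : piB c baseB = baseB
  · exact Or.inl (mem_sh_iff.2 hc)
  right
  set p := piB c baseB with hp
  have h0 := sb_partition p p.2
  have hne : Nat.beq (p : ℕ) 0 = false :=
    Bool.eq_false_iff.2 fun e => hc (Fin.ext (Nat.eq_of_beq_eq_true e))
  simp only [chkPartition, hne, Bool.cond_false] at h0
  obtain ⟨o, ho, hmem⟩ := List.countP_pos_iff.1 (Nat.lt_of_lt_of_eq one_pos (Nat.eq_of_beq_eq_true h0).symm)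
  have hO := sbList_ok o ho
  obtain ⟨h, hh, e⟩ := hO.mem_orbit homB ⟨o.2, hO.root_lt⟩ rfl hmem
  have hr : o.2 = 7 ∨ o.2 = 1 := by
    simp only [sbList, List.mem_cons, List.not_mem_nil, or_false] at ho
    rcases ho with rfl | rfl <;> simp
  refine ⟨o.2, by simpa using hr, h, hh, (h * ev g (repWord o.2))⁻¹ * c, ?_, by group⟩
  have e2 : piB (ev g (repWord o.2)) baseB = ⟨o.2, hO.root_lt⟩ := by
    apply Fin.ext
    rcases hr with hr | hr <;> simp only [hr] <;>
      exact (homB.apply_ev _ (by decide +kernel) baseB).trans (show actB.go _ 0 = _ by decide +kernel)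
  rw [mem_sh_iff, map_mul, map_inv, Equiv.Perm.mul_apply, Equiv.Perm.inv_eq_iff_eq, map_mul,
    Equiv.Perm.mul_apply, e2, e]

theorem prod_pow (c : Spor.Fi22) : (c * tz * c⁻¹ * tz) ^ 2 = 1 ∨ (c * tz * c⁻¹ * tz) ^ 3 = 1 := by
  rcases cases_double c with hc | ⟨r, hr, h, hh, h', hh', rfl⟩
  · left; rw [tz_comm c hc, mul_inv_cancel_right, tz_sq, one_pow]
  · have e : h * ev g (repWord r) * h' * tz * (h * ev g (repWord r) * h')⁻¹ * tz =
        h * (ev g (repWord r) * tz * (ev g (repWord r))⁻¹ * tz) * h⁻¹ := by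
      calc _ = h * ev g (repWord r) * (h' * tz) * h'⁻¹ * (ev g (repWord r))⁻¹ * (h⁻¹ * tz) := by group
        _ = _ := by rw [tz_comm h' hh', tz_comm h⁻¹ (inv_mem hh)]; group
    rw [e, conj_pow, conj_pow, conj_eq_one_iff, conj_eq_one_iff, ← ev_pair r hr, ← ev_power, ← ev_power]
    simp only [List.mem_cons, List.not_mem_nil, or_false] at hr
    rcases hr with rfl | rfl
    · exact Or.inl (eq_one_of_chk (by decide +kernel) (by decide +kernel))
    · exact Or.inr (eq_one_of_chk (by decide +kernel) (by decide +kernel))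

theorem pair_ne_one (r : ℕ) (hr : r ∈ [7, 1]) : ev g (repWord r ++ [0] ++ (repWord r).reverse ++ [0]) ≠ 1 := by
  intro h
  simp only [List.mem_cons, List.not_mem_nil, or_false] at hr
  rcases hr with rfl | rfl
  · have e := homA.apply_ev (repWord 7 ++ [0] ++ (repWord 7).reverse ++ [0]) (by decide +kernel) ⟨0, by decide +kernel⟩
    rw [h, map_one] at e
    have hne : actA.go (repWord 7 ++ [0] ++ (repWord 7).reverse ++ [0]) 0 ≠ 0 := by decide +kernel
    exact hne e.symm
  · have e := homA.apply_ev (repWord 1 ++ [0] ++ (repWord 1).reverse ++ [0]) (by decide +kernel) ⟨0, by decide +kernel⟩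
    rw [h, map_one] at e
    have hne : actA.go (repWord 1 ++ [0] ++ (repWord 1).reverse ++ [0]) 0 ≠ 0 := by decide +kernel
    exact hne e.symm

theorem centralizer_tz : Subgroup.centralizer {tz} = val g sh0W := by
  refine le_antisymm (fun y hy => ?_) fun y hy => Subgroup.mem_centralizer_singleton_iff.2 (tz_comm y hy)
  rcases cases_double y with hc | ⟨r, hr, h, hh, h', hh', rfl⟩
  · exact hc
  exfalso
  have hC : val g sh0W ≤ Subgroup.centralizer {tz} :=
    fun y hy => Subgroup.mem_centralizer_singleton_iff.2 (tz_comm y hy)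
  rw [(Subgroup.centralizer {tz}).mul_mem_cancel_right (hC hh'),
    (Subgroup.centralizer {tz}).mul_mem_cancel_left (hC hh), Subgroup.mem_centralizer_singleton_iff] at hy
  exact pair_ne_one r hr (by rw [ev_pair r hr, hy, mul_inv_cancel_right, tz_sq])

theorem tz_ne_one : tz ≠ 1 := by
  intro h
  have e := homA.apply_ev [0] (by decide) ⟨0, by decide +kernel⟩
  rw [show ev g [0] = 1 from h, map_one] at e
  have hne : actA.go [0] 0 ≠ 0 := by decide +kernel
  exact hne e.symm

theorem orderOf_tz : orderOf tz = 2 := orderOf_eq_prime (by rw [pow_two, tz_sq]) tz_ne_one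

theorem isThreeTranspositionClass : IsThreeTranspositionClass (conjugatesOf tz) := by
  refine ⟨⟨?_, ?_⟩, ⟨tz, mem_conjugatesOf_self, rfl⟩, ?_⟩
  · intro d hd
    obtain ⟨a, rfl⟩ := isConj_iff.1 (show IsConj tz _ from hd)
    rw [← MulAut.conj_apply, MulEquiv.orderOf_eq, orderOf_tz]
  · intro d hd e he
    obtain ⟨a, rfl⟩ := isConj_iff.1 (show IsConj tz _ from hd)
    obtain ⟨b, rfl⟩ := isConj_iff.1 (show IsConj tz _ from he)
    have hrw : a * tz * a⁻¹ * (b * tz * b⁻¹) = b * ((b⁻¹ * a) * tz * (b⁻¹ * a)⁻¹ * tz) * b⁻¹ := by group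
    rw [hrw, conj_pow, conj_pow, conj_eq_one_iff, conj_eq_one_iff]
    exact prod_pow _
  · have := isSimple
    have e : Subgroup.normalClosure {tz} = Subgroup.closure (conjugatesOf tz) := by
      rw [Subgroup.normalClosure, Group.conjugatesOfSet, Set.biUnion_singleton]
    rw [← e]
    refine (IsSimpleGroup.eq_bot_or_eq_top_of_normal _ Subgroup.normalClosure_normal).resolve_left fun hb => ?_
    refine tz_ne_one ?_
    rw [← Subgroup.mem_bot, ← hb]
    exact Subgroup.subset_normalClosure rfl

theorem card_class : Nat.card (conjugatesOf tz) = 3510 := by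
  let f : Spor.Fi22 ⧸ Subgroup.centralizer {tz} → conjugatesOf tz :=
    Quotient.lift (fun a => ⟨a * tz * a⁻¹, show IsConj tz _ from (isConj_iff.2 ⟨a, rfl⟩)⟩) fun a b h => by
      refine Subtype.ext ?_
      have h' := Subgroup.mem_centralizer_singleton_iff.1 (QuotientGroup.leftRel_apply.1 h)
      calc a * tz * a⁻¹ = a * (tz * (a⁻¹ * b)) * b⁻¹ := by group
        _ = b * tz * b⁻¹ := by rw [← h']; group
  have hf : Function.Bijective f := by
    refine ⟨fun u v => ?_, fun d => ?_⟩
    · induction u using QuotientGroup.induction_on with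
      | _ a => induction v using QuotientGroup.induction_on with
        | _ b =>
          intro h
          have h' : a * tz * a⁻¹ = b * tz * b⁻¹ := congrArg Subtype.val h
          refine QuotientGroup.eq.2 (Subgroup.mem_centralizer_singleton_iff.2 ?_)
          calc a⁻¹ * b * tz = a⁻¹ * (b * tz * b⁻¹) * b := by group
            _ = tz * (a⁻¹ * b) := by rw [← h']; group
    · obtain ⟨a, ha⟩ := isConj_iff.1 (show IsConj tz _ from d.2)
      exact ⟨QuotientGroup.mk a, Subtype.ext ha⟩
  rw [← Nat.card_eq_of_bijective f hf, ← Subgroup.index, centralizer_tz, stabB]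
  exact index_stab trB

end Cfsg.Agent.Spor.Cos.Fi22
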