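import Cfsg.Agent.Lib.Spor.Cos.Fi22.ActBData
import Cfsg.Agent.Lib.Spor.Cos.Fi22.Words

/-! Data and checks for a presented sporadic group. -/

set_option autoImplicit false
set_option maxRecDepth 100000
set_option maxHeartbeats 4000000

namespace Cfsg.Agent.Spor.Cos.Fi22

theorem actB_rels12 : allBlock (actB.chkFix words) 3510 256 12 = true := by decide +kernel

theorem actB_rels13 : allBlock (actB.chkFix words) 3510 256 13 = true := by decide +kernel


end Cfsg.Agent.Spor.Cos.Fi22
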