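import Cfsg.Agent.Lib.Spor.Cos.Fi22.ActBRel0
import Cfsg.Agent.Lib.Spor.Cos.Fi22.ActBRel1

/-! Data and checks for a presented sporadic group. -/

set_option autoImplicit false
set_option maxRecDepth 100000
set_option maxHeartbeats 4000000

namespace Cfsg.Agent.Spor.Cos.Fi22

theorem actB_rels : ∀ i < 3510, (actB.chkFix words) i = true :=
  of_blocks (size := 256) (b := 14) (by decide) (by decide) fun j hj => by
    interval_cases j
    · exact actB_rels0
    · exact actB_rels1
    · exact actB_rels2
    · exact actB_rels3
    · exact actB_rels4
    · exact actB_rels5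
    · exact actB_rels6
    · exact actB_rels7
    · exact actB_rels8
    · exact actB_rels9
    · exact actB_rels10
    · exact actB_rels11
    · exact actB_rels12
    · exact actB_rels13

end Cfsg.Agent.Spor.Cos.Fi22
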