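import Cfsg.Agent.Lib.Spor.Cos.Fi22.Pres
import Cfsg.Agent.Lib.Spor.Cos.Fi22.ActBInv
import Cfsg.Agent.Lib.Spor.Cos.Fi22.ActBRel

/-! Data and checks for a presented sporadic group. -/

set_option autoImplicit false
set_option maxRecDepth 100000
set_option maxHeartbeats 4000000

open Cfsg.Spor

namespace Cfsg.Agent.Spor.Cos.Fi22

theorem exists_homB : ∃ π : Spor.Fi22 →* Equiv.Perm (Fin actB.N), ∀ s, π (g s) = actB.perm s :=
  pres.exists_hom actB.perm actB.perm_sq (actB.ev_rels actB_inv (by decide +kernel) actB_rels) actB.perm_out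

/-- The action on 3510 points. -/
noncomputable def piB : Spor.Fi22 →* Equiv.Perm (Fin actB.N) := exists_homB.choose

theorem homB : actB.Hom g piB := ⟨actB_inv, exists_homB.choose_spec⟩

end Cfsg.Agent.Spor.Cos.Fi22
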