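import Cfsg.Agent.Lib.Spor.Cos.Fi22.D5Part0

/-! A checked coset enumeration. -/

set_option autoImplicit false
set_option maxRecDepth 100000
set_option maxHeartbeats 4000000

namespace Cfsg.Agent.Spor.Cos.Fi22

theorem d5_def0 : allBlock d5.chkDef 15 512 0 = true := by decide +kernel

theorem d5_defs : ∀ i, i + 1 < d5.M → d5.chkDef i = true := by
  intro i hi
  change i + 1 < 16 at hi
  refine of_allBlock (n := 15) (size := 512) (by decide) (fun j hj => ?_) (by omega)
  have hj' : j < 1 := by omega
  interval_cases j
  · exact d5_def0

theorem d5_facts : ∀ i, d5.M ≤ i + 1 → i < d5.nF → ∃ J, d5.chkFact i J = true := by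
  exact d5.facts_of_covers (d5.covers_of_part _ _ _ d5_part0) rfl rfl

theorem d5_final0 : allBlock d5.chkFinal 80 512 0 = true := by decide +kernel

theorem d5_checks : d5.Checks where
  pos := by decide +kernel
  defs := d5_defs
  facts := d5_facts
  final := by
    intro k hk
    change k < 16 * 5 at hk
    refine of_allBlock (n := 80) (size := 512) (by decide) (fun j hj => ?_) (by omega)
    have hj' : j < 1 := by omega
    interval_cases j
    · exact d5_final0

theorem d5_derived : d5.rels.all (derivedOk d5.n d5Base) = true := by decide +kernel

end Cfsg.Agent.Spor.Cos.Fi22
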