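import Cfsg.Agent.Lib.Spor.Cos.Log

/-!
Data of a coset enumeration with 16 cosets.
-/

set_option autoImplicit false
set_option maxRecDepth 100000
set_option maxHeartbeats 4000000

namespace Cfsg.Agent.Spor.Cos.Fi22

def d5FactsT0 : Tree := .leaf 0xf0000f00000e0000e00000d0000d00000b0000b10000a0000a1000080000820000400004300001000013000000000010000f0000f10000e0000e20000c0000c20000a0000a4000070000740000500005400006000064000040000440000300003400002000022000000000020000f0000f30000d0000d30000c0000c30000a0000a30000b0000b30000900009300008000082000050000520000300003100001000011000000000040000f0000f40000e0000e20000b0000b10000700007100005000050000040000400000200002000001000010000000000000000a0000c10000400006000008000090000060000710000c0000d30000f0000e20000e0000d40000d0000b40000c0000910000b0000940000a00008200009000072000080000630000700005300006000030000050000330000400002100003000022000020000140000100000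

/-- The table d5Facts. -/
def d5Facts : Table := ⟨d5FactsT0, 0, 44, 6⟩

def d5FinalT0 : Tree := .node (.leaf 0x258001840003e000260000c00011c0006a000150003880004c000920005f0003780009c0002c000450000880005000044000120002180003c000da000230002e800034000200003300010000164000160000e00012000084000b60000c000208000c40001200057000038001ac0004a0002f0002a8000280007e000050000400014c0000c00003000020000b40000200069000010000f40005600000000338001440007600029) (.leaf 0x1c8000740009e000650003b8000dc000380001b000318001d4000320004d0000d000078000e600017)

/-- The table d5Final. -/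
def d5Final : Table := ⟨d5FinalT0, 1, 21, 6⟩

/-- The base words of `d5`. -/
def d5Base : List (List ℕ) := [[0, 1, 0, 1, 0, 1], [0, 2, 0, 2], [0, 3, 0, 3], [0, 4, 0, 4], [1, 2, 1, 2, 1, 2], [1, 3, 1, 3], [1, 4, 1, 4], [2, 3, 2, 3, 2, 3], [2, 4, 2, 4, 2, 4], [3, 4, 3, 4]]

/-- The certificate `d5`. -/
def d5 : Log where
  n := 5
  N := 16
  M := 16
  nF := 60
  facts := d5Facts
  final := d5Final
  rels := [[1, 4, 1, 4], [0, 3, 0, 3], [0, 2, 0, 2], [1, 3, 1, 3], [0, 4, 0, 4], [0, 1, 0, 1, 0, 1], [1, 2, 1, 2, 1, 2], [2, 4, 2, 4, 2, 4], [3, 4, 3, 4], [2, 3, 2, 3, 2, 3]]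
  sub := [[0], [1], [2], [3]]

end Cfsg.Agent.Spor.Cos.Fi22
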