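import Cfsg.Agent.Lib.Spor.Cos.Fi22.D5Data

/-! Checks of the facts of a coset enumeration. -/

set_option autoImplicit false
set_option maxRecDepth 100000
set_option maxHeartbeats 4000000

namespace Cfsg.Agent.Spor.Cos.Fi22

theorem d5_part0 : d5.chkPart 15 60 [(28, 0x520000280001004010000200800000010000180000800000000510100c000000603800000000000030000980001b0000e80007000034030100006808090000c8000600008e010100005808080000b8000580008a0101000048080800009800048000860101000040080800022000054000280200800048040300006800044000200000c00020808060000a03024000160000f000070000280007e02018000180c090001f00002400010020080001804020000180001400008000020001e80806000020301800002000000001d80404000000200000000000000016000360000e80007004010000e00810000190000d80006800030000350100c0002c06038000440002a00014000080000cc0403000070180c00024000100000840004a0002f0100c0001006028000140001200008000020000b40403000020180a00007000030000b40202000020100200003000010000ac0202000010100400001000000000a4020200000010080000000000000a0000980005800046010100004008040000380002800008010100001008030000780004000042010100003008020000580003000010010100001808010000b8000600002801010000480800), (17, 0x7400038000750080800038040080006c0003400073008080003404010001b80004c0001e0000f80009c06020000a0100a0006c0001100005400028000230180800020040280004c000240006d008080002004000001a8000480000f000070000940602000040100c000680000180001c0000c00002018080000404048000040000000067008080000004040000000000000340003a0001c00031804040001c0200c000c00001e0000d8000680003e030100006008060002e0000440002e000160000800c040000e0201c000b00000f000098000480001c030100003008070002c00008000042020080003004040002a00002400010020080001804040002a00002c00014020080001804080002900001c0000c02008000100408)]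 = true := by decide +kernel

end Cfsg.Agent.Spor.Cos.Fi22
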