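import Cfsg.Agent.Lib.Spor.Cos.Fi22.E6Part0

/-! A checked coset enumeration. -/

set_option autoImplicit false
set_option maxRecDepth 100000
set_option maxHeartbeats 4000000

namespace Cfsg.Agent.Spor.Cos.Fi22

theorem e6_def0 : allBlock e6.chkDef 26 512 0 = true := by decide +kernel

theorem e6_defs : ∀ i, i + 1 < e6.M → e6.chkDef i = true := by
  intro i hi
  change i + 1 < 27 at hi
  refine of_allBlock (n := 26) (size := 512) (by decide) (fun j hj => ?_) (by omega)
  have hj' : j < 1 := by omega
  interval_cases j
  · exact e6_def0

theorem e6_facts : ∀ i, e6.M ≤ i + 1 → i < e6.nF → ∃ J, e6.chkFact i J = true := by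
  exact e6.facts_of_covers (e6.covers_of_part _ _ _ e6_part0) rfl rfl

theorem e6_final0 : allBlock e6.chkFinal 162 512 0 = true := by decide +kernel

theorem e6_checks : e6.Checks where
  pos := by decide +kernel
  defs := e6_defs
  facts := e6_facts
  final := by
    intro k hk
    change k < 27 * 6 at hk
    refine of_allBlock (n := 162) (size := 512) (by decide) (fun j hj => ?_) (by omega)
    have hj' : j < 1 := by omega
    interval_cases j
    · exact e6_final0

theorem e6_derived : e6.rels.all (derivedOk e6.n e6Base) = true := by decide +kernel

end Cfsg.Agent.Spor.Cos.Fi22
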