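import Cfsg.Agent.Lib.Spor.Cos.Log

/-!
Data of a coset enumeration with 27 cosets.
-/

set_option autoImplicit false
set_option maxRecDepth 100000
set_option maxHeartbeats 4000000

namespace Cfsg.Agent.Spor.Cos.Fi22

def e6FactsT0 : Tree := .node (.leaf 0x5000100001050000e0000e50000f0000f50000d0000d50000b0000b50000c0000c50000a0000a50000900009200006000062000040000410000200002100001000011000000000040001a0001a40001900019400018000184000170001740001500015300014000143000110001120000c0000c1000080000810000600006000005000050000030000300000200002000001000010000000000000000e0001000000b0000d0000090000a0000070000810001000012300016000172000120001310000d0000f400014000161000050000700001a00019100019000182000180001750001700015500016000133000150001350001400011400013000114000120000f2000110000f4000100000d30000f0000c40000e0000b30000d0000a10000c0000a30000b0000920000a00008200009000075000080000650000700004000006000045000050000310000400003200003000023000020000140000100000) (.leaf 0x10001a0001a000018000180000170001700001600016000014000140000150001500001300013000011000110000120001200000f0000f00000c0000c10000e0000e10000b0000b100009000092000050000550000200002500001000015000000000050001a0001a500019000195000180001820001500015300012000123000100001030000e0000e40000c0000c40000a0000a40000800008400006000064000090000940000700007400004000044000050000540000300003400002000023000000000020001a0001a200019000191000170001710001500015100016000161000140001410001300013100011000112000100001020000e0000e20000d0000d20000b0000b300008000083000070000730000500005300006000063000040000430000300003200001000012000000000030001a0001a3000190001930001800018200016000162000140001450001200012)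

/-- The table e6Facts. -/
def e6Facts : Table := ⟨e6FactsT0, 1, 44, 6⟩

def e6FinalT0 : Tree := .node (.node (.leaf 0xc00004c0002c000420003880030400028000110007080010c0001e000c50004d800048000aa00040000068002fc00132000100001a0001040001c000c30004a8001bc000a60000b000048002ec0012e000df0001a80014400018000bd000498001b40000e0000a000040002e400122000050000300013c001ba000b700001800010000d60004d0006d800004000040008f0003480012c001b2000000005a800234000ce00049) (.leaf 0x568003c40004e000370002d80020c00152000f300015000094000500003a000538003bc0010200023000678000ec0007c000eb00013000090000b200021000528003b4000fe0001f0006680028c0007e000460003d8000880003a000200001c0003a4000fa0001b00065800284001ca000470003c800078000320009f0001c800110000ea000c90000e00015c0002e000e70003b8000680002a0009d00071800114000e6000c7)) (.node (.leaf 0x1ae00065000458002cc001f6000330006a80018c00112000b1000188000c8001a600061000438000bc00060000f90001680017c000780002e000578003dc00056000360001e80021400156000f50001600017400052000d1) (.leaf 0))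

/-- The table e6Final. -/
def e6Final : Table := ⟨e6FinalT0, 2, 21, 6⟩

/-- The base words of `e6`. -/
def e6Base : List (List ℕ) := [[0, 1, 0, 1, 0, 1], [0, 2, 0, 2], [0, 3, 0, 3], [0, 4, 0, 4], [0, 5, 0, 5], [1, 2, 1, 2, 1, 2], [1, 3, 1, 3], [1, 4, 1, 4], [1, 5, 1, 5], [2, 3, 2, 3, 2, 3], [2, 4, 2, 4], [2, 5, 2, 5, 2, 5], [3, 4, 3, 4, 3, 4], [3, 5, 3, 5], [4, 5, 4, 5]]

/-- The certificate `e6`. -/
def e6 : Log where
  n := 6
  N := 27
  M := 27
  nF := 126
  facts := e6Facts
  final := e6Final
  rels := [[1, 5, 1, 5], [4, 5, 4, 5], [1, 3, 1, 3], [2, 4, 2, 4], [3, 5, 3, 5], [1, 4, 1, 4], [0, 5, 0, 5], [0, 2, 0, 2], [0, 3, 0, 3], [0, 4, 0, 4], [0, 1, 0, 1, 0, 1], [1, 2, 1, 2, 1, 2], [2, 3, 2, 3, 2, 3], [3, 4, 3, 4, 3, 4], [2, 5, 2, 5, 2, 5]]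
  sub := [[0], [1], [2], [3], [5]]

end Cfsg.Agent.Spor.Cos.Fi22
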