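import Cfsg.Agent.Lib.Spor.Cos.Fi22.E6Data

/-! Checks of the facts of a coset enumeration. -/

set_option autoImplicit false
set_option maxRecDepth 100000
set_option maxHeartbeats 4000000

namespace Cfsg.Agent.Spor.Cos.Fi22

theorem e6_part0 : e6.chkPart 26 126 [(29, 0x280001c0000c000040003580806000040302c0000600002000348040400002020080000200000000338040400000020140000000000002000062000198000c80401000190081200060000188000c00401000180080a0005e000178000b804010001700806000360001e0000f40006e0005b0100c0005006068000940005200028000120001640403000110181a0002700013000164020200011010080001d0001080008000038000570100c00030060600004c0002e00016000090001540403000080181600034000200001040006a000510100c00014060500001c000160000a0000300013c04030000301814000090000400013c0202000030100c00005000020001340202000020100e000030000100012c020200001010100000100000000124020200000010120000000000000f0000d8000780008a010100005808090000a80006000086010100004808080000880004800082010100003808070000680003800014010100002008060000f8000880007201010000680805000158000b000050010100009808040001180009000040010100007808030000c8000700002c01010000500802000138000a80004801010000880801000048000300000c01010000180800), (27, 0x1f0000f00027c02020000d010060001b0000d00027402020000b010060009a0000980006400030000120180800020040600026000022000150000a000040060200007010180000f00007000254020200006010080000d0000600024c020200004010080000900004000244020200003010080009200005800028040100004008100009000003800018040100003008040000300002800010000040008f0100c000040606000004000000008d008080000004018000000000000440011000033000190080200032010200010c0003100018008020003001008000780002f000170000f40010a02018000b00c0c000400000e8000560002a0001d80c040002402038000f40002100013800098000400301000078080e0003d00008c00044020080007804010003c00007c0003c020080006804010003b00006c00034020080005804010003a00007400038020080006004040003900006400030020080005004040003800005400028020080004804040003900005c0002c020080005004000000780004c000240000e00037808060000c030380001a0001100008000030000da02018000200c0e0003600002c0001402008000200407),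 (28, 0x6c0000040000002008000000401000000000000098003500006600032010040006402030003480006200030010040006002000000b40005e0002e000160003440403000150181c000ce0001d0000a4000500003b018080004804060003200003a000230001100007006020000c0101a000c60000c80007c0003c00018018080002804068003000002a0001b0000d0000500602000090101a000c60000b80005804010000a0080a000c00002100010c04010000900812000be0002000010404010000700812000bc0000580002804010000400812000be0000880004004010000700806000ba0001a0000d40401000050080a000b8000038000180401000030080a00009000040002e402020000301002000b60000280001004010000200806000010000180000800000000b50100c00000060680000000000004800160000330001900802000320101c0005e00031000180000b80015e02018000b80c0b0001e0000f40015601010000b00802000148000a00014e01010000980802000158000a80014e01010000980800000138000980014a01010000880800000510000f8000740003b0001f80c04000200202c0013c0003800010800080000720301000068080b), (16, 0x188000cc00064000300007c8080600030030280005e0002e0007b804040002e0201c0005a0002c00078804040002a02018000560002a000778040400026020180004e0002600076804040002202018000520002800077804040002602020000740003b0007580404000240201c000420002000074804040001e0201c001c8000460001f0000fc0008e0301000070080a0007100011000070000390002280c040001602028001c0000420000b800058000860301000048080a0000d800068001c6010100005808050000a800050001c2010100004808020006f0000d000022000100001a80c040000a0202c001b80000500004800020000080301000010080e0006d00000c0000402008000080404)]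 = true := by decide +kernel

end Cfsg.Agent.Spor.Cos.Fi22
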