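import Cfsg.Agent.Lib.Spor.Cos.Fi22.E7Part0

/-! A checked coset enumeration. -/

set_option autoImplicit false
set_option maxRecDepth 100000
set_option maxHeartbeats 4000000

namespace Cfsg.Agent.Spor.Cos.Fi22

theorem e7_def0 : allBlock e7.chkDef 27 512 0 = true := by decide +kernel

theorem e7_defs : ∀ i, i + 1 < e7.M → e7.chkDef i = true := by
  intro i hi
  change i + 1 < 28 at hi
  refine of_allBlock (n := 27) (size := 512) (by decide) (fun j hj => ?_) (by omega)
  have hj' : j < 1 := by omega
  interval_cases j
  · exact e7_def0

theorem e7_facts : ∀ i, e7.M ≤ i + 1 → i < e7.nF → ∃ J, e7.chkFact i J = true := by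
  exact e7.facts_of_covers (e7.covers_of_part _ _ _ e7_part0) rfl rfl

theorem e7_final0 : allBlock e7.chkFinal 196 512 0 = true := by decide +kernel

theorem e7_checks : e7.Checks where
  pos := by decide +kernel
  defs := e7_defs
  facts := e7_facts
  final := by
    intro k hk
    change k < 28 * 7 at hk
    refine of_allBlock (n := 196) (size := 512) (by decide) (fun j hj => ?_) (by omega)
    have hj' : j < 1 := by omega
    interval_cases j
    · exact e7_final0

theorem e7_derived : e7.rels.all (derivedOk e7.n e7Base) = true := by decide +kernel

end Cfsg.Agent.Spor.Cos.Fi22
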