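import Cfsg.Agent.Lib.Spor.Cos.Orb

/-! Data and checks for a presented sporadic group. -/

set_option autoImplicit false
set_option maxRecDepth 100000
set_option maxHeartbeats 4000000

namespace Cfsg.Agent.Spor.Cos.Fi22

def lv4EB0 : Bst := .leaf 0x4000900540004000700550003000600160004000400170003000300150000000300040004000200aa000300010007000100010005000300000044000200000006000000000043

/-- The table lv4E. -/
def lv4E : Tab := ⟨lv4EB0, 48, 4⟩

def lv4PB0 : Bst := .node 13 (.node 6 (.node 3 (.node 1 (.leaf 0x40001000300060000000000000000) (.node 2 (.leaf 0x80009000700000000000000000000) (.leaf 0))) (.node 4 (.leaf 0) (.node 5 (.leaf 0x20000000000000000) (.leaf 0xa000b0000000000000000)))) (.node 9 (.leaf 0) (.node 11 (.node 10 (.leaf 0) (.leaf 0x50000000000000000000000000000000000000000)) (.leaf 0)))) (.leaf 0)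

/-- The table lv4P. -/
def lv4P : Tab := ⟨(.node 440 (.node 220 (.node 110 (.node 55 (.node 27 lv4PB0 (.leaf 0)) (.leaf 0)) (.leaf 0)) (.leaf 0)) (.leaf 0)), 16, 4⟩

/-- The words of `lv4`. -/
def lv4W : List (List ℕ) := [[4], [5], [6], [7], [8]]

/-- An orbit of 12 points. -/
def lv4 : Orb := ⟨12, lv4E, lv4P⟩

end Cfsg.Agent.Spor.Cos.Fi22
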