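import Cfsg.Agent.Lib.Spor.Cos.Fi22.Sa1Data
import Cfsg.Agent.Lib.Spor.Cos.Fi22.ActAData

/-! Data and checks for a presented sporadic group. -/

set_option autoImplicit false
set_option maxRecDepth 100000
set_option maxHeartbeats 4000000

namespace Cfsg.Agent.Spor.Cos.Fi22

theorem sa1_closed0 : allBlock (sa1.chkClosed actA sa1W) 10920 512 0 = true := by decide +kernel

theorem sa1_closed1 : allBlock (sa1.chkClosed actA sa1W) 10920 512 1 = true := by decide +kernel

theorem sa1_closed2 : allBlock (sa1.chkClosed actA sa1W) 10920 512 2 = true := by decide +kernel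

theorem sa1_closed3 : allBlock (sa1.chkClosed actA sa1W) 10920 512 3 = true := by decide +kernel

theorem sa1_closed4 : allBlock (sa1.chkClosed actA sa1W) 10920 512 4 = true := by decide +kernel

theorem sa1_closed5 : allBlock (sa1.chkClosed actA sa1W) 10920 512 5 = true := by decide +kernel

theorem sa1_closed6 : allBlock (sa1.chkClosed actA sa1W) 10920 512 6 = true := by decide +kernel

theorem sa1_closed7 : allBlock (sa1.chkClosed actA sa1W) 10920 512 7 = true := by decide +kernel

theorem sa1_closed8 : allBlock (sa1.chkClosed actA sa1W) 10920 512 8 = true := by decide +kernel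

theorem sa1_closed9 : allBlock (sa1.chkClosed actA sa1W) 10920 512 9 = true := by decide +kernel

theorem sa1_closed10 : allBlock (sa1.chkClosed actA sa1W) 10920 512 10 = true := by decide +kernel

theorem sa1_closed11 : allBlock (sa1.chkClosed actA sa1W) 10920 512 11 = true := by decide +kernel


end Cfsg.Agent.Spor.Cos.Fi22
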