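import Cfsg.Agent.Lib.Spor.Cos.Fi22.Sa1Ent0

/-! Data and checks for a presented sporadic group. -/

set_option autoImplicit false
set_option maxRecDepth 100000
set_option maxHeartbeats 4000000

namespace Cfsg.Agent.Spor.Cos.Fi22

theorem sa1_ents : ∀ i < 10920, (sa1.chkEnt actA sa1W 281) i = true :=
  of_blocks (size := 512) (b := 22) (by decide) (by decide) fun j hj => by
    interval_cases j
    · exact sa1_ents0
    · exact sa1_ents1
    · exact sa1_ents2
    · exact sa1_ents3
    · exact sa1_ents4
    · exact sa1_ents5
    · exact sa1_ents6
    · exact sa1_ents7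
    · exact sa1_ents8
    · exact sa1_ents9
    · exact sa1_ents10
    · exact sa1_ents11
    · exact sa1_ents12
    · exact sa1_ents13
    · exact sa1_ents14
    · exact sa1_ents15
    · exact sa1_ents16
    · exact sa1_ents17
    · exact sa1_ents18
    · exact sa1_ents19
    · exact sa1_ents20
    · exact sa1_ents21

end Cfsg.Agent.Spor.Cos.Fi22
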