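import Cfsg.Agent.Lib.Spor.Cos.Simple
import Cfsg.Agent.Lib.Spor.Cos.Fi22.ActA
import Cfsg.Agent.Lib.Spor.Cos.Fi22.ActB
import Cfsg.Agent.Lib.Spor.Cos.Fi22.TopB
import Cfsg.Agent.Lib.Spor.Cos.Fi22.Sh0
import Cfsg.Agent.Lib.Spor.Cos.Fi22.Sh1
import Cfsg.Agent.Lib.Spor.Cos.Fi22.Sh2
import Cfsg.Agent.Lib.Spor.Cos.Fi22.Sh3
import Cfsg.Agent.Lib.Spor.Cos.Fi22.Sh4
import Cfsg.Agent.Lib.Spor.Cos.Fi22.Sh5
import Cfsg.Agent.Lib.Spor.Cos.Fi22.Sh6

/-! Data and checks for a presented sporadic group. -/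

set_option autoImplicit false
set_option maxRecDepth 100000
set_option maxHeartbeats 4000000

open Cfsg.Spor

namespace Cfsg.Agent.Spor.Cos.Fi22

theorem levH : ∃ P, Lev g sh0W 18393661440 P := by
  have := finite
  obtain ⟨P7, h7⟩ : ∃ P, Lev g [] 1 P := ⟨_, Lev.nil⟩
  obtain ⟨P6, h6⟩ : ∃ P, Lev g sh6W 2 P :=
    ⟨_, h7.step homA sh6_ok (by decide +kernel) (by decide +kernel) (by decide +kernel)⟩
  obtain ⟨P5, h5⟩ : ∃ P, Lev g sh5W 4 P :=
    ⟨_, h6.step homA sh5_ok (by decide +kernel) (by decide +kernel) (by decide +kernel)⟩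
  obtain ⟨P4, h4⟩ : ∃ P, Lev g sh4W 12 P :=
    ⟨_, h5.step homA sh4_ok (by decide +kernel) (by decide +kernel) (by decide +kernel)⟩
  obtain ⟨P3, h3⟩ : ∃ P, Lev g sh3W 144 P :=
    ⟨_, h4.step homA sh3_ok (by decide +kernel) (by decide +kernel) (by decide +kernel)⟩
  obtain ⟨P2, h2⟩ : ∃ P, Lev g sh2W 5040 P :=
    ⟨_, h3.step homA sh2_ok (by decide +kernel) (by decide +kernel) (by decide +kernel)⟩
  obtain ⟨P1, h1⟩ : ∃ P, Lev g sh1W 1451520 P :=
    ⟨_, h2.step homA sh1_ok (by decide +kernel) (by decide +kernel) (by decide +kernel)⟩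
  obtain ⟨P0, h0⟩ : ∃ P, Lev g sh0W 18393661440 P :=
    ⟨_, h1.step homA sh0_ok (by decide +kernel) (by decide +kernel) (by decide +kernel)⟩
  exact ⟨P0, h0⟩

/-- The base point of the second action. -/
noncomputable def baseB : Fin actB.N := ⟨0, topB_ok.root_lt⟩

theorem trB (p : Fin actB.N) : ∃ y : Spor.Fi22, piB y baseB = p := exists_apply_eq homB topB_ok rfl p

theorem stabB : val g sh0W = stab piB baseB := by
  have := finite
  obtain ⟨P, h⟩ := levH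
  exact val_eq_stab homB trB (by decide +kernel) (by decide +kernel) h.le upper.2

end Cfsg.Agent.Spor.Cos.Fi22
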