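import Cfsg.Agent.Lib.Spor.Cos.Fi22.Sh1Data
import Cfsg.Agent.Lib.Spor.Cos.Fi22.ActAData

/-! Data and checks for a presented sporadic group. -/

set_option autoImplicit false
set_option maxRecDepth 100000
set_option maxHeartbeats 4000000

namespace Cfsg.Agent.Spor.Cos.Fi22

theorem sh1_ents0 : allBlock (sh1.chkEnt actA sh1W 2) 288 512 0 = true := by decide +kernel


end Cfsg.Agent.Spor.Cos.Fi22
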