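import Cfsg.Agent.Lib.Spor.Cos.Orb

/-! Data and checks for a presented sporadic group. -/

set_option autoImplicit false
set_option maxRecDepth 100000
set_option maxHeartbeats 4000000

namespace Cfsg.Agent.Spor.Cos.Fi22

def sh2EB0 : Bst := .node 1 (.leaf 0xb0045000500090085000500080017000000080008000400070044000500050055000000050014000400040007000300040043000500030054000400020015000200020006000400010016000100010005000000000004000000000003) (.node 2 (.leaf 0x4001c03c60000001b00a00004001901250005001806180004001600a10004001501470005001400cb0002001400470004001200560005001100b40005000f00b50001000f00460004000e00a20005000c00180001000c00090005000b00aa) (.leaf 0x10021043c0000001f01830000001d0174))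

/-- The table sh2E. -/
def sh2E : Tab := ⟨sh2EB0, 48, 4⟩

def sh2PB0 : Bst := .node 13 (.node 6 (.node 3 (.node 1 (.leaf 0x11000c00080004000200010000000000000000) (.node 2 (.leaf 0x12000d0003000500090000000000000000) (.leaf 0))) (.node 4 (.leaf 0) (.node 5 (.leaf 0x180014000f000b0007000000000000) (.leaf 0x17000a00060000000000000000)))) (.node 9 (.node 7 (.leaf 0) (.node 8 (.leaf 0) (.leaf 0xe00000000000000000000))) (.node 11 (.node 10 (.leaf 0) (.leaf 0x1000000000000000000000000000000013001b001e)) (.node 12 (.leaf 0x1500160000000000000000) (.leaf 0x1900000000000000000000000000000000000000000000))))) (.node 20 (.node 16 (.leaf 0) (.node 18 (.leaf 0) (.node 19 (.leaf 0x1d00000000000000000000) (.leaf 0)))) (.node 23 (.node 21 (.leaf 0x1a0000000000000000000000000000) (.leaf 0)) (.node 25 (.node 24 (.leaf 0x200000000000000000) (.leaf 0x21000000000000)) (.leaf 0))))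

def sh2PB1 : Bst := .node 68 (.node 61 (.node 58 (.leaf 0) (.node 59 (.leaf 0) (.node 60 (.leaf 0) (.leaf 0x1f000000000000000000000000)))) (.node 64 (.leaf 0) (.node 66 (.leaf 0) (.node 67 (.leaf 0) (.leaf 0x22000000000000000000000000000000000000000000000000))))) (.leaf 0)

def sh2PB2 : Bst := .node 96 (.leaf 0) (.node 103 (.node 99 (.node 97 (.leaf 0) (.node 98 (.leaf 0x1c00000000000000000000000000000000) (.leaf 0))) (.leaf 0)) (.leaf 0))

/-- The table sh2P. -/
def sh2P : Tab := ⟨(.node 440 (.node 220 (.node 110 (.node 55 (.node 27 sh2PB0 (.leaf 0)) (.node 82 sh2PB1 sh2PB2)) (.leaf 0)) (.leaf 0)) (.leaf 0)), 16, 4⟩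

/-- The words of `sh2`. -/
def sh2W : List (List ℕ) := [[3], [4], [5], [6], [7], [8]]

/-- An orbit of 35 points. -/
def sh2 : Orb := ⟨35, sh2E, sh2P⟩

end Cfsg.Agent.Spor.Cos.Fi22
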