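import Cfsg.Agent.Lib.Spor.Cos.Orb

/-! Data and checks for a presented sporadic group. -/

set_option autoImplicit false
set_option maxRecDepth 100000
set_option maxHeartbeats 4000000

namespace Cfsg.Agent.Spor.Cos.Fi22

def sh4EB0 : Bst := .leaf 0x100010006000000000005000000000004

/-- The table sh4E. -/
def sh4E : Tab := ⟨sh4EB0, 48, 4⟩

def sh4PB0 : Bst := .node 13 (.node 6 (.node 3 (.node 1 (.leaf 0x2000100000000000000000000) (.leaf 0)) (.leaf 0)) (.leaf 0)) (.leaf 0)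

/-- The table sh4P. -/
def sh4P : Tab := ⟨(.node 440 (.node 220 (.node 110 (.node 55 (.node 27 sh4PB0 (.leaf 0)) (.leaf 0)) (.leaf 0)) (.leaf 0)) (.leaf 0)), 16, 4⟩

/-- The words of `sh4`. -/
def sh4W : List (List ℕ) := [[4], [5], [8]]

/-- An orbit of 3 points. -/
def sh4 : Orb := ⟨3, sh4E, sh4P⟩

end Cfsg.Agent.Spor.Cos.Fi22
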