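import Cfsg.Agent.Lib.Spor.Cos.Fi22.Uu0Ent0
import Cfsg.Agent.Lib.Spor.Cos.Fi22.Uu0Ent1

/-! Data and checks for a presented sporadic group. -/

set_option autoImplicit false
set_option maxRecDepth 100000
set_option maxHeartbeats 4000000

namespace Cfsg.Agent.Spor.Cos.Fi22

theorem uu0_ents : ∀ i < 12672, (uu0.chkEnt actA uu0W 0) i = true :=
  of_blocks (size := 512) (b := 25) (by decide) (by decide) fun j hj => by
    interval_cases j
    · exact uu0_ents0
    · exact uu0_ents1
    · exact uu0_ents2
    · exact uu0_ents3
    · exact uu0_ents4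
    · exact uu0_ents5
    · exact uu0_ents6
    · exact uu0_ents7
    · exact uu0_ents8
    · exact uu0_ents9
    · exact uu0_ents10
    · exact uu0_ents11
    · exact uu0_ents12
    · exact uu0_ents13
    · exact uu0_ents14
    · exact uu0_ents15
    · exact uu0_ents16
    · exact uu0_ents17
    · exact uu0_ents18
    · exact uu0_ents19
    · exact uu0_ents20
    · exact uu0_ents21
    · exact uu0_ents22
    · exact uu0_ents23
    · exact uu0_ents24

end Cfsg.Agent.Spor.Cos.Fi22
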