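import Cfsg.Agent.Lib.Spor.Cos.Orb

/-! Data and checks for a presented sporadic group. -/

set_option autoImplicit false
set_option maxRecDepth 100000
set_option maxHeartbeats 4000000

namespace Cfsg.Agent.Spor.Cos.Fi22

def uu1EB0 : Bst := .node 2 (.node 1 (.leaf 0x4000b011c0002000b09f500040009011d0005000809f70003000809f600040007051b000300060a5200010006094f000300050a51000200040950000200030a46000000030951000100020a47000500010a6a000600000a6b000000000777) (.leaf 0x6001800d90000001806340006001700610001001700d00005001600d10006001400600006001300dc0001001306330005001200cf0003001200d20006001001130005000f00d50005000e07ac0004000e01010006000c01120005000b07ab)) (.node 3 (.leaf 0x5002800440006002700450006002600080002002600f40005002400ff00050023008f0006002200420006002000070002002000de0000002000dd0005001f00fe0006001e00da0006001c00410000001c00f50006001b00620001001b00c8) (.leaf 0x3003701000002003600d700010035000c00010034009a00050033000a0006003200f30005003207ad0002003100fb00010030009b0005002e000b0005002d00430006002c00090001002c00fd0001002b00fc000500290095))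

/-- The table uu1E. -/
def uu1E : Tab := ⟨uu1EB0, 48, 4⟩

def uu1PB0 : Bst := .node 13 (.node 6 (.node 3 (.node 1 (.leaf 0x3c0035003a0033002d00280000000000000000000000000000) (.leaf 0)) (.node 4 (.leaf 0) (.node 5 (.leaf 0x2e002f0034002900230000) (.leaf 0)))) (.node 9 (.node 7 (.leaf 0x21001d001a) (.node 8 (.leaf 0) (.leaf 0x2a000000000000000000000000000000000000000000000000000000000000))) (.node 11 (.node 10 (.leaf 0x36003b0000000000000000003000000000000000000000) (.leaf 0)) (.node 12 (.leaf 0) (.leaf 0x17000000000000000000000000002000000000000000000000000000000000))))) (.node 20 (.node 16 (.node 14 (.leaf 0x270026001900000024001f0000003d00000014000000000016001b001c) (.node 15 (.leaf 0) (.leaf 0x2b0025003200310037000000000000000000000022002c0039000000000000))) (.node 18 (.node 17 (.leaf 0x12003e) (.leaf 0xd000f000000000000000000000000000000000015001100000000)) (.leaf 0))) (.leaf 0))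

def uu1PB1 : Bst := .node 68 (.leaf 0) (.node 75 (.leaf 0) (.node 78 (.leaf 0) (.node 80 (.leaf 0) (.node 81 (.leaf 0) (.leaf 0xa00000000000000000000000000000000000000000000)))))

def uu1PB2 : Bst := .node 96 (.leaf 0) (.node 103 (.node 99 (.leaf 0) (.node 101 (.node 100 (.leaf 0x1e0018000000000000) (.leaf 0)) (.leaf 0))) (.leaf 0))

def uu1PB3 : Bst := .node 123 (.node 116 (.leaf 0) (.node 119 (.leaf 0) (.node 121 (.leaf 0) (.node 122 (.leaf 0) (.leaf 0x380013001000000000000000000000000000000000000000000000))))) (.leaf 0)

def uu1PB4 : Bst := .node 151 (.node 144 (.leaf 0) (.node 147 (.leaf 0) (.node 149 (.node 148 (.leaf 0) (.leaf 0x8000000000000000000000000000000000000000000000000000000000000)) (.node 150 (.leaf 0x40006) (.leaf 0))))) (.node 158 (.leaf 0) (.node 161 (.node 159 (.leaf 0) (.node 160 (.leaf 0xc000b000e00000000000000000000) (.leaf 0))) (.node 163 (.leaf 0) (.node 164 (.leaf 0) (.leaf 0x30005000000000000000000000000)))))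

def uu1PB5 : Bst := .node 178 (.node 171 (.node 168 (.node 166 (.leaf 0x900070000) (.node 167 (.leaf 0x100020000000000000000000000000000000000000000) (.leaf 0))) (.leaf 0)) (.leaf 0)) (.leaf 0)

/-- The table uu1P. -/
def uu1P : Tab := ⟨(.node 110 (.node 55 (.node 27 uu1PB0 (.leaf 0)) (.node 82 uu1PB1 uu1PB2)) (.node 165 (.node 137 uu1PB3 uu1PB4) (.node 192 uu1PB5 (.leaf 0)))), 16, 4⟩

/-- The words of `uu1`. -/
def uu1W : List (List ℕ) := [[2], [3], [4], [5], [6], [7], [8]]

/-- An orbit of 63 points. -/
def uu1 : Orb := ⟨63, uu1E, uu1P⟩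

end Cfsg.Agent.Spor.Cos.Fi22
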