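import Cfsg.Agent.Lib.Spor.Cos.Orb

/-! Data and checks for a presented sporadic group. -/

set_option autoImplicit false
set_option maxRecDepth 100000
set_option maxHeartbeats 4000000

namespace Cfsg.Agent.Spor.Cos.Fi22

def uu3EB0 : Bst := .leaf 0x3000500dd00030003008000020003001000030001004f00010001000f0003000000a900000000000e00000000000d

/-- The table uu3E. -/
def uu3E : Tab := ⟨uu3EB0, 48, 4⟩

def uu3PB0 : Bst := .node 13 (.node 6 (.node 3 (.node 1 (.leaf 0x3000100000000000000000000000000000000000000000000000000000000) (.node 2 (.leaf 0x5) (.leaf 0))) (.node 4 (.leaf 0) (.node 5 (.leaf 0x4000000000000000000000000000000000000000000000000000000000000) (.leaf 0)))) (.node 9 (.node 7 (.leaf 0) (.node 8 (.leaf 0) (.leaf 0x6))) (.node 11 (.node 10 (.leaf 0) (.leaf 0x2000000000000000000000000000000000000)) (.leaf 0)))) (.node 20 (.node 16 (.node 14 (.leaf 0x70000000000000000000000000000000000000000000000000000) (.leaf 0)) (.leaf 0)) (.leaf 0))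

/-- The table uu3P. -/
def uu3P : Tab := ⟨(.node 440 (.node 220 (.node 110 (.node 55 (.node 27 uu3PB0 (.leaf 0)) (.leaf 0)) (.leaf 0)) (.leaf 0)) (.leaf 0)), 16, 4⟩

/-- The words of `uu3`. -/
def uu3W : List (List ℕ) := [[2], [3], [4], [6]]

/-- An orbit of 8 points. -/
def uu3 : Orb := ⟨8, uu3E, uu3P⟩

end Cfsg.Agent.Spor.Cos.Fi22
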