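import Cfsg.Agent.Lib.Spor.Cos.Fi22.Uu4Ent0

/-! Data and checks for a presented sporadic group. -/

set_option autoImplicit false
set_option maxRecDepth 100000
set_option maxHeartbeats 4000000

namespace Cfsg.Agent.Spor.Cos.Fi22

theorem uu4_ents : ∀ i < 3, (uu4.chkEnt actA uu4W 14) i = true :=
  of_blocks (size := 512) (b := 1) (by decide) (by decide) fun j hj => by
    interval_cases j
    · exact uu4_ents0

end Cfsg.Agent.Spor.Cos.Fi22
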